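import Mathlib
import Cfsg.Agent.H68.Bounds
import Cfsg.Agent.H60.CoverMult
set_option linter.all false

/-!
# Fibre products of perfect central extensions

* `card_fib`, `kerFib`, `pce_fib`: order of the fibre product, the kernel is the product of the kernels, a perfect fibre
  product is a perfect central extension.
* `perfect_of_coprime`: if the kernels have coprime orders, the fibre product is perfect.
* `dichotomy`: if both kernels have the same prime order, the fibre product is perfect or the extensions are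
  isomorphic over the base.
* `exists_ppart`: a quotient extension with kernel the `p`-part of the kernel.
* `hasSchur_of_noCov`: a perfect central extension without `p`-fold covers gives the multiplier of its base.
-/

set_option autoImplicit false
set_option linter.style.haveILetI false
set_option linter.unusedVariables false

namespace Cfsg.Agent.H133.FibPce

open Subgroup Cfsg.Agent.H51.Mult Cfsg.Agent.H68.Bounds

universe u v w

section

variable {L : Type u} {X : Type v} {Y : Type w} [Group L] [Group X] [Group Y] {π : L →* Y} {ρ : X →* Y}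

/-- the projection of the fibre product to the base -/
def pj (π : L →* Y) (ρ : X →* Y) : fib π ρ →* Y := (π.comp (MonoidHom.fst L X)).comp (fib π ρ).subtype

/-- the first projection -/
def p1 (π : L →* Y) (ρ : X →* Y) : fib π ρ →* L := (MonoidHom.fst L X).comp (fib π ρ).subtype

/-- the second projection -/
def p2 (π : L →* Y) (ρ : X →* Y) : fib π ρ →* X := (MonoidHom.snd L X).comp (fib π ρ).subtype

theorem pj_eq (x : fib π ρ) : pj π ρ x = π (p1 π ρ x) := rfl

theorem pj_eq' (x : fib π ρ) : pj π ρ x = ρ (p2 π ρ x) := x.2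

theorem p1_surj (hρ : Function.Surjective ρ) : Function.Surjective (p1 π ρ) := by
  intro l
  obtain ⟨x, hx⟩ := hρ (π l)
  exact ⟨⟨(l, x), hx.symm⟩, rfl⟩

theorem pj_surj (hπ : Function.Surjective π) (hρ : Function.Surjective ρ) : Function.Surjective (pj π ρ) :=
  hπ.comp (p1_surj hρ)

theorem pj_ker (hπ : π.ker ≤ center L) (hρ : ρ.ker ≤ center X) : (pj π ρ).ker ≤ center (fib π ρ) := by
  rintro ⟨⟨l, x⟩, hx⟩ h1
  have h2 : π l = 1 := h1
  have h3 : ρ x = 1 := by rw [← show π l = ρ x from hx]; exact h2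
  rw [mem_center_iff]
  rintro ⟨⟨l', x'⟩, hx'⟩
  apply Subtype.ext
  exact Prod.ext (mem_center_iff.1 (hπ h2) l') (mem_center_iff.1 (hρ h3) x')

/-- the kernel of the projection to the base -/
def kerFib (π : L →* Y) (ρ : X →* Y) : (pj π ρ).ker ≃* π.ker × ρ.ker where
  toFun x := (⟨(x.1.1).1, x.2⟩, ⟨(x.1.1).2, by
    have h1 : π (x.1.1).1 = ρ (x.1.1).2 := x.1.2
    have h2 : π (x.1.1).1 = 1 := x.2
    rw [MonoidHom.mem_ker, ← h1, h2]⟩)
  invFun y := ⟨⟨(y.1.1, y.2.1), by
    show π y.1.1 = ρ y.2.1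
    rw [MonoidHom.mem_ker.1 y.1.2, MonoidHom.mem_ker.1 y.2.2]⟩, y.1.2⟩
  left_inv x := rfl
  right_inv y := rfl
  map_mul' x y := rfl

/-- order of the fibre product -/
theorem card_fib (hρ : Function.Surjective ρ) : Nat.card (fib π ρ) = Nat.card L * Nat.card ρ.ker := by
  have h1 := Subgroup.card_eq_card_quotient_mul_card_subgroup (p1 π ρ).ker
  rw [Nat.card_congr (QuotientGroup.quotientKerEquivOfSurjective _ (p1_surj hρ)).toEquiv] at h1
  rw [h1]
  congr 1
  refine Nat.card_congr ⟨fun x => ⟨(x.1.1).2, ?_⟩, fun x => ⟨⟨(1, x.1), ?_⟩, rfl⟩, fun x => ?_, fun x => rfl⟩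
  · have h1 : π (x.1.1).1 = ρ (x.1.1).2 := x.1.2
    have h2 : (x.1.1).1 = 1 := x.2
    rw [MonoidHom.mem_ker, ← h1, h2, map_one]
  · show π 1 = ρ x.1
    rw [map_one, MonoidHom.mem_ker.1 x.2]
  · apply Subtype.ext
    apply Subtype.ext
    exact Prod.ext (show (1 : L) = (x.1.1).1 from (show (x.1.1).1 = 1 from x.2).symm) rfl

/-- the commutator subgroup of the fibre product covers both factors -/
theorem pce_comm (hπ : PCE π) (hρ : PCE ρ) :
    PCE ((p1 π ρ).comp (commutator (fib π ρ)).subtype) ∧ PCE ((p2 π ρ).comp (commutator (fib π ρ)).subtype) := by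
  have hD := Cfsg.Agent.H51.Tools.pce_of_central (pj_surj hπ.surj hρ.surj) (pj_ker hπ.cen hρ.cen) hπ.perf_base
  have hc1 : π.comp ((p1 π ρ).comp (commutator (fib π ρ)).subtype) = (pj π ρ).comp (commutator (fib π ρ)).subtype :=
    rfl
  have hc2 : ρ.comp ((p2 π ρ).comp (commutator (fib π ρ)).subtype) = (pj π ρ).comp (commutator (fib π ρ)).subtype := by
    ext x
    exact (x.1.2).symm
  exact ⟨pce_of_factor hπ _ (hc1 ▸ hD), pce_of_factor hρ _ (hc2 ▸ hD)⟩

/-- a perfect fibre product is a perfect central extension of the base -/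
theorem pce_fib (hπ : PCE π) (hρ : PCE ρ) (h : commutator (fib π ρ) = ⊤) : PCE (pj π ρ) :=
  ⟨pj_surj hπ.surj hρ.surj, pj_ker hπ.cen hρ.cen, h⟩

theorem eq_top_of_mem (hπ : PCE π) (hρ : PCE ρ) {h1 : ∀ x : X, ρ x = 1 → π 1 = ρ x}
    (h : ∀ (x : X) (hx : ρ x = 1), (⟨(1, x), h1 x hx⟩ : fib π ρ) ∈ commutator (fib π ρ)) :
    commutator (fib π ρ) = ⊤ := by
  rw [eq_top_iff]
  rintro ⟨⟨l, x⟩, hx⟩ -
  obtain ⟨⟨⟨⟨l', x'⟩, hx'⟩, hd⟩, hl⟩ := (pce_comm hπ hρ).1.surj l
  have hl' : l' = l := hl
  subst hl'
  have e1 : ρ (x'⁻¹ * x) = 1 := by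
    rw [map_mul, map_inv, ← show π l' = ρ x' from hx', show π l' = ρ x from hx, inv_mul_cancel]
  have h2 := mul_mem hd (h _ e1)
  convert h2 using 1
  apply Subtype.ext
  exact Prod.ext (mul_one l').symm (mul_inv_cancel_left x' x).symm

/-- **Kernels of coprime orders**: the fibre product is perfect. -/
theorem perfect_of_coprime [Finite L] [Finite X] (hπ : PCE π) (hρ : PCE ρ)
    (hc : Nat.Coprime (Nat.card π.ker) (Nat.card ρ.ker)) : commutator (fib π ρ) = ⊤ := by
  haveI : Finite Y := Finite.of_surjective π hπ.surj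
  obtain ⟨hf, hg⟩ := pce_comm hπ hρ
  set f := (p1 π ρ).comp (commutator (fib π ρ)).subtype
  set g := (p2 π ρ).comp (commutator (fib π ρ)).subtype
  have cL : Nat.card L = Nat.card Y * Nat.card π.ker := by
    rw [Subgroup.card_eq_card_quotient_mul_card_subgroup π.ker,
      Nat.card_congr (QuotientGroup.quotientKerEquivOfSurjective _ hπ.surj).toEquiv]
  have cX : Nat.card X = Nat.card Y * Nat.card ρ.ker := by
    rw [Subgroup.card_eq_card_quotient_mul_card_subgroup ρ.ker,
      Nat.card_congr (QuotientGroup.quotientKerEquivOfSurjective _ hρ.surj).toEquiv]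
  have c1 : Nat.card (commutator (fib π ρ)) = Nat.card L * Nat.card f.ker := by
    rw [Subgroup.card_eq_card_quotient_mul_card_subgroup f.ker,
      Nat.card_congr (QuotientGroup.quotientKerEquivOfSurjective _ hf.surj).toEquiv]
  have c2 : Nat.card (commutator (fib π ρ)) = Nat.card X * Nat.card g.ker := by
    rw [Subgroup.card_eq_card_quotient_mul_card_subgroup g.ker,
      Nat.card_congr (QuotientGroup.quotientKerEquivOfSurjective _ hg.surj).toEquiv]
  have hY : 0 < Nat.card Y := Nat.card_pos
  have h1 : Nat.card π.ker * Nat.card f.ker = Nat.card ρ.ker * Nat.card g.ker := by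
    apply Nat.eq_of_mul_eq_mul_left hY
    rw [← mul_assoc, ← mul_assoc, ← cL, ← cX, ← c1, ← c2]
  have h2 : Nat.card ρ.ker ∣ Nat.card f.ker := by
    apply hc.symm.dvd_of_dvd_mul_left
    rw [h1]
    exact dvd_mul_right _ _
  have h3 : Nat.card (fib π ρ) ≤ Nat.card (commutator (fib π ρ)) := by
    rw [card_fib hρ.surj, c1]
    exact Nat.mul_le_mul_left _ (Nat.le_of_dvd Nat.card_pos h2)
  exact Subgroup.eq_top_of_le_card _ h3

/-- **Two extensions with kernels of the same prime order**: the fibre product is perfect or they are isomorphic over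
the base. -/
theorem dichotomy [Finite L] [Finite X] (hπ : PCE π) (hρ : PCE ρ) (hp : (Nat.card ρ.ker).Prime)
    (hcard : Nat.card π.ker = Nat.card ρ.ker) :
    commutator (fib π ρ) = ⊤ ∨ ∃ α : L ≃* X, ∀ x, ρ (α x) = π x := by
  haveI : Finite Y := Finite.of_surjective π hπ.surj
  obtain ⟨hf, hg⟩ := pce_comm hπ hρ
  have h1 : ∀ x : X, ρ x = 1 → π 1 = ρ x := fun x hx => by rw [map_one, hx]
  -- the inclusion of the second kernel
  let j : ρ.ker →* fib π ρ :=
    { toFun := fun x => ⟨(1, x.1), h1 x.1 x.2⟩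
      map_one' := rfl
      map_mul' := fun x y => Subtype.ext (Prod.ext (mul_one (1 : L)).symm rfl) }
  haveI : Fact (Nat.card ρ.ker).Prime := ⟨hp⟩
  rcases Subgroup.eq_bot_or_eq_top_of_prime_card ((commutator (fib π ρ)).comap j) with h2 | h2
  · right
    set f := (p1 π ρ).comp (commutator (fib π ρ)).subtype with hfdef
    set g := (p2 π ρ).comp (commutator (fib π ρ)).subtype with hgdef
    have hfi : Function.Injective f := by
      rw [injective_iff_map_eq_one]
      rintro ⟨⟨⟨l, x⟩, hx⟩, hd⟩ hl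
      have hl' : l = 1 := hl
      subst hl'
      have hx1 : ρ x = 1 := by rw [← show π 1 = ρ x from hx, map_one]
      have h3 : (⟨x, hx1⟩ : ρ.ker) ∈ (commutator (fib π ρ)).comap j := hd
      rw [h2, mem_bot] at h3
      have h4 : x = 1 := congrArg Subtype.val h3
      subst h4
      rfl
    have cL : Nat.card L = Nat.card Y * Nat.card π.ker := by
      rw [Subgroup.card_eq_card_quotient_mul_card_subgroup π.ker,
        Nat.card_congr (QuotientGroup.quotientKerEquivOfSurjective _ hπ.surj).toEquiv]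
    have cX : Nat.card X = Nat.card Y * Nat.card ρ.ker := by
      rw [Subgroup.card_eq_card_quotient_mul_card_subgroup ρ.ker,
        Nat.card_congr (QuotientGroup.quotientKerEquivOfSurjective _ hρ.surj).toEquiv]
    have hfb : Function.Bijective f := ⟨hfi, hf.surj⟩
    have hgb : Function.Bijective g := by
      rw [Nat.bijective_iff_surjective_and_card]
      refine ⟨hg.surj, ?_⟩
      rw [Nat.card_congr (Equiv.ofBijective f hfb), cL, cX, hcard]
    refine ⟨(MulEquiv.ofBijective f hfb).symm.trans (MulEquiv.ofBijective g hgb), fun x => ?_⟩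
    obtain ⟨d, rfl⟩ := hfb.2 x
    have e1 : (MulEquiv.ofBijective f hfb).symm (f d) = d := (MulEquiv.ofBijective f hfb).symm_apply_apply d
    rw [MulEquiv.trans_apply, e1]
    exact (d.1.2).symm
  · left
    refine eq_top_of_mem hπ hρ (h1 := h1) fun x hx => ?_
    have h3 : (⟨x, hx⟩ : ρ.ker) ∈ (commutator (fib π ρ)).comap j := by rw [h2]; exact mem_top _
    exact h3

end

section ppart

variable {L : Type u} {X : Type v} [Group L] [Group X] [Finite L] {π : L →* X}

/-- a quotient extension with kernel the `p`-part of the kernel -/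
theorem exists_ppart (h : PCE π) {p : ℕ} (hp : p.Prime) :
    ∃ (L' : Type) (_ : Group L') (_ : Finite L') (ρ : L' →* X), PCE ρ ∧ IsPGroup p ρ.ker ∧
      Nat.card ρ.ker = p ^ ((Nat.card π.ker).factorization p) := by
  classical
  letI : CommGroup π.ker := { (inferInstance : Group π.ker) with mul_comm := ker_comm h }
  haveI : Fact p.Prime := ⟨hp⟩
  have hcard0 : Nat.card π.ker ≠ 0 := Nat.card_pos.ne'
  set m := (Nat.card π.ker).factorization p with hm
  let s : π.ker →* π.ker := powMonoidHom (p ^ m)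
  obtain ⟨L₁, _, q, ρ, hq, hk', hρ, h1⟩ := h.quot (N := s.range.map π.ker.subtype) (map_subtype_le _)
  haveI : Finite L₁ := Finite.of_surjective q hq
  obtain ⟨f, hf, hfq⟩ := exists_ker_hom (π := π) hq hρ
  have hord : ∀ x ∈ s.range, ¬ p ∣ orderOf x := by
    rintro _ ⟨y, rfl⟩ hd
    have h2 : orderOf (s y) ∣ Nat.card π.ker / p ^ m := by
      apply orderOf_dvd_of_pow_eq_one
      show (y ^ (p ^ m)) ^ (Nat.card π.ker / p ^ m) = 1
      rw [← pow_mul, Nat.mul_div_cancel' (Nat.ordProj_dvd _ _), pow_card_eq_one']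
    exact Nat.not_dvd_ordCompl hp hcard0 (hd.trans h2)
  have hPQ : IsPGroup p ρ.ker := by
    intro x
    obtain ⟨y, rfl⟩ := hf x
    refine ⟨m, ?_⟩
    rw [← map_pow]
    apply Subtype.ext
    rw [hfq]
    have : ((y ^ p ^ m : π.ker) : L) ∈ q.ker := by
      rw [hk']
      exact ⟨y ^ p ^ m, ⟨y, rfl⟩, rfl⟩
    exact this
  obtain ⟨L', _, _, ρ', h3, ⟨e⟩⟩ := h1.lower
  refine ⟨L', inferInstance, inferInstance, ρ', h3, hPQ.of_equiv e.symm, ?_⟩
  rw [Nat.card_congr e.toEquiv]
  have hc := card_ker_of_quot (π := π) hq hρ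
  obtain ⟨j, hj⟩ := hPQ.exists_card_eq
  have hnd : ¬ p ∣ Nat.card q.ker := by
    intro hd
    obtain ⟨z, hz⟩ := exists_prime_orderOf_dvd_card' p hd
    have hz' : (z : L) ∈ s.range.map π.ker.subtype := by rw [← hk']; exact z.2
    obtain ⟨y, hy, hyz⟩ := hz'
    apply hord y hy
    have : orderOf y = orderOf z := by
      rw [← Subgroup.orderOf_coe y, ← Subgroup.orderOf_coe z]
      exact congrArg orderOf hyz
    rw [this, hz]
  rw [hj] at hc ⊢
  congr 1
  rw [hm, hc, Nat.factorization_mul (pow_pos hp.pos _).ne' Nat.card_pos.ne', Finsupp.add_apply,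
    Nat.factorization_eq_zero_of_not_dvd hnd, add_zero, hp.factorization_pow, Finsupp.single_eq_same]

end ppart

/-- **The multiplier from a cover**: if `q : G → Q` is a perfect central extension with kernel `A` and `G` has no perfect
central extensions with kernel of prime order, then the multiplier of `Q` is `A`. -/
theorem hasSchur_of_noCov {G Q : Type u} [Group G] [Finite G] [Group Q] {q : G →* Q} (hq : PCE q)
    (h : ∀ p : ℕ, p.Prime → p ∣ Nat.card G → NoCov p G) {A : Type v} [CommGroup A] (e : q.ker ≃* A) :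
    Cfsg.HasSchurMultiplier Q A :=
  Cfsg.Agent.H60.CoverMult.hasSchurMultiplier_of_cover hq.perf (hasCyclic_one hq.perf h) hq.surj hq.cen e

end Cfsg.Agent.H133.FibPce
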