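import Cfsg.Agent.KFacts.OddLift.USixL.Diff
import Cfsg.Agent.ClassicalGeometry.PSUAutCount
import Cfsg.Agent.H133.FibPce
set_option linter.all false

/-!
# The 2-part of the multiplier of `PSU₆(2)`

* `main`: the kernel of a perfect central extension with kernel a 2-group has exponent 2 and order at most 4.
* `no_iso`: the diagonal automorphism of order 3 does not lift to a perfect double cover.
* `perfect_twist`: the fibre product of a perfect double cover and its twist by the diagonal automorphism is perfect.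
-/

set_option autoImplicit false
set_option linter.unusedSectionVars false
set_option linter.unusedVariables false

namespace Cfsg.Agent.H133.USixTwo

open Subgroup Cfsg Cfsg.Agent.LieClassical.HermBasic Cfsg.Agent.ClassicalGeometry.UnitTransv
  Cfsg.Agent.SporadicStructure.UnitTwo Cfsg.Agent.KFacts.OddLift Cfsg.Agent.KFacts.OddLift.USixL
  Cfsg.Agent.ClassicalGeometry.PSUAutCount Cfsg.Agent.H51.Mult Cfsg.Agent.KFacts.MulDef
open Cfsg.Agent.ClassicalGeometry.UnitAutBasic (tau pr pr_surjective)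
open scoped Matrix

universe u v

/-- **The 2-part of the multiplier of `PSU₆(2)`.** -/
theorem main {F : Type v} [Field F] [Fintype F] (hF : Fintype.card F = 2 ^ 2) {K : Type u} [Group K] [Finite K]
    (hK : commutator K = ⊤) {f : K →* PSU 6 F 2} (hf : Function.Surjective f) (hZ : f.ker ≤ center K)
    (h2 : IsPGroup 2 f.ker) : (∀ z ∈ f.ker, z * z = 1) ∧ Nat.card f.ker ≤ 4 := by
  obtain ⟨t, h⟩ := exists_TL (hF := hF) hf hZ h2
  obtain ⟨ω, hω⟩ := exists_omega hF
  have hω0 := omega_ne_zero hω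
  have p := tri_eee hF hω
  have q : ∀ c : F, c ≠ 0 → Tri (ee 0) (ee 1) (c • ee 2) := fun c hc => by
    have := p.smul hF one_ne_zero one_ne_zero hc
    rwa [one_smul, one_smul] at this
  have s1 := dd_sq h p
  have s2 := dd_sq h (q ω hω0)
  have s3 := dd_sq h (q _ (pow_ne_zero 2 hω0))
  have h3 : dd t (ee 0) (ee 1) (ee 2) * dd t (ee 0) (ee 1) (ω • ee 2) = dd t (ee 0) (ee 1) (ω ^ 2 • ee 2) :=
    mul_right_cancel ((dd_three h p hω).trans s3.symm)
  have h4 := mem_center_iff.1 (hZ (dd_ker h p)) (dd t (ee 0) (ee 1) (ω • ee 2))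
  have key := Frat.card_le_four_of_gen s1 s2 h3 (h4.trans h3)
    (S := {x | ∃ u v w, Tri u v w ∧ x = dd t u v w}) (by
      rintro _ ⟨u, v, w, p', rfl⟩
      exact Or.inr (dd_cases h hf hZ hω p'))
  rw [ker_eq hK hf hZ h2 h]
  exact key

/-! ### The diagonal automorphism -/

section Diag

variable {F : Type v} [Field F] [Fintype F]

/-- the diagonal entries -/
def dv (ω : F) : Fin 6 → F := ![ω, ω, 1, 1, 1, 1]

theorem dv_ne {ω : F} (hω : ω ≠ 0) (i : Fin 6) : dv ω i ≠ 0 := by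
  fin_cases i <;> simp [dv, hω]

theorem dv_cube {ω : F} (hω : ω ^ 3 = 1) (i : Fin 6) : dv ω i * dv ω i ^ 2 = 1 := by
  fin_cases i <;> simp [dv] <;> linear_combination hω

theorem det_dv {ω : F} (hω : ω ≠ 0) : (Matrix.diagonal (dv ω)).det ≠ 0 := by
  rw [Matrix.det_diagonal]
  exact Finset.prod_ne_zero_iff.2 fun i _ => dv_ne hω i

/-- the element `diag(ω, ω, 1, 1, 1, 1)` of `GU₆(2)` -/
def Dg (ω : F) (h0 : ω ≠ 0) (h3 : ω ^ 3 = 1) : Cfsg.GU 6 F 2 :=
  ⟨Matrix.GeneralLinearGroup.mkOfDetNeZero (Matrix.diagonal (dv ω)) (det_dv h0), by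
    intro x y
    show hermForm 6 F 2 (Matrix.diagonal (dv ω) *ᵥ x) (Matrix.diagonal (dv ω) *ᵥ y) = hermForm 6 F 2 x y
    unfold hermForm
    refine Finset.sum_congr rfl fun i _ => ?_
    rw [Matrix.mulVec_diagonal, Matrix.mulVec_diagonal]
    linear_combination (x i * y i ^ 2) * dv_cube h3 i⟩

variable {ω : F} {h0 : ω ≠ 0} {h3 : ω ^ 3 = 1}

theorem gm_Dg (x : Fin 6 → F) : gm (Dg ω h0 h3) *ᵥ x = fun i => dv ω i * x i := by
  funext i
  exact Matrix.mulVec_diagonal _ _ i

theorem gm_ee0 : gm (Dg ω h0 h3) *ᵥ ee 0 = ω • ee 0 := by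
  rw [gm_Dg]
  funext i
  fin_cases i <;> simp [dv, ee]

theorem gm_ee1 : gm (Dg ω h0 h3) *ᵥ ee 1 = ee 1 := by
  rw [gm_Dg]
  funext i
  fin_cases i <;> simp [dv, ee]

theorem gm_ee2 : gm (Dg ω h0 h3) *ᵥ ee 2 = ee 2 := by
  rw [gm_Dg]
  funext i
  fin_cases i <;> simp [dv, ee]

/-- the diagonal automorphism -/
def dlt (ω : F) (h0 : ω ≠ 0) (h3 : ω ^ 3 = 1) : MulAut (PSU 6 F 2) := toAut (Dg ω h0 h3) (RingEquiv.refl F)

theorem dlt_pr (g : SU 6 F 2) : dlt ω h0 h3 (pr 6 F 2 g) = pr 6 F 2 (semiConj (Dg ω h0 h3) (RingEquiv.refl F) g) :=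
  rfl

theorem act_dlt (g : SU 6 F 2) (x : Fin 6 → F) :
    act (semiConj (Dg ω h0 h3) (RingEquiv.refl F) g) (gm (Dg ω h0 h3) *ᵥ x) = gm (Dg ω h0 h3) *ᵥ act g x :=
  act_semiConj _ _ g x

theorem herm_Dg (x y : Fin 6 → F) :
    hermForm 6 F 2 (gm (Dg ω h0 h3) *ᵥ x) (gm (Dg ω h0 h3) *ᵥ y) = hermForm 6 F 2 x y :=
  herm_semi (Dg ω h0 h3) (RingEquiv.refl F) x y

theorem dlt_tau (hF : Fintype.card F = 2 ^ 2) {x : Fin 6 → F} (hx : hermForm 6 F 2 x x = 0) :
    dlt ω h0 h3 (tau hF x) = tau hF (gm (Dg ω h0 h3) *ᵥ x) := by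
  have h := toAut_tau hF (Dg ω h0 h3) (RingEquiv.refl F) (r := 1) (by simp) hx
  rw [one_smul] at h
  exact h

end Diag

/-! ### The diagonal automorphism does not lift -/

section NoIso

variable {F : Type v} [Field F] [Fintype F] (hF : Fintype.card F = 2 ^ 2) {L : Type u} [Group L] [Finite L]
  {π : L →* PSU 6 F 2} {c : L}

include hF

theorem no_iso (hd : Dbl π c) {ω : F} (hω : ω ^ 2 + ω + 1 = 0) (h0 : ω ≠ 0) (h3 : ω ^ 3 = 1) :
    ¬ ∃ α : L ≃* L, ∀ x, dlt ω h0 h3 (π (α x)) = π x := by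
  rintro ⟨α, hα⟩
  have hZ : π.ker ≤ center L := by
    intro x hx
    rw [mem_center_iff]
    rcases (hd.ker x).1 hx with h | h
    · intro y; rw [h, mul_one, one_mul]
    · intro y; rw [h, hd.cen]
  have h2 : IsPGroup 2 π.ker := by
    intro x
    refine ⟨1, Subtype.ext ?_⟩
    rcases (hd.ker x.1).1 x.2 with h | h
    · show (x : L) ^ 2 ^ 1 = 1
      rw [h, one_pow]
    · show (x : L) ^ 2 ^ 1 = 1
      rw [h, pow_one, pow_two, hd.sq]
  obtain ⟨t, h⟩ := exists_TL (hF := hF) hd.surj hZ h2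
  set D := Dg ω h0 h3 with hDdef
  have hadd : ∀ x y : Fin 6 → F, gm D *ᵥ (x + y) = gm D *ᵥ x + gm D *ᵥ y := fun x y => Matrix.mulVec_add _ _ _
  have hsmul : ∀ (k : F) (x : Fin 6 → F), gm D *ᵥ (k • x) = k • (gm D *ᵥ x) := fun k x => Matrix.mulVec_smul _ _ _
  have hherm : ∀ x y : Fin 6 → F, hermForm 6 F 2 (gm D *ᵥ x) (gm D *ᵥ y) = hermForm 6 F 2 x y := herm_Dg
  have hinj : ∀ x : Fin 6 → F, gm D *ᵥ x = 0 → x = 0 := by
    intro x hx
    rw [← gm_inv_mulVec D x, hx, Matrix.mulVec_zero]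
  -- the kernel is fixed by `α`
  have hαk : ∀ z : L, π z = 1 → π (α z) = 1 := by
    intro z hz
    have h4 := hα z
    rw [hz] at h4
    exact (dlt ω h0 h3).injective (h4.trans (map_one _).symm)
  have hαf : ∀ z : L, π z = 1 → α z = z := by
    intro z hz
    rcases (hd.ker z).1 hz with h4 | h4
    · rw [h4, map_one]
    · rw [h4]
      rcases (hd.ker _).1 (hαk c ((hd.ker c).2 (Or.inr rfl))) with h5 | h5
      · exact absurd (α.injective (h5.trans (map_one α).symm)) hd.ne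
      · exact h5
  -- the new lifts
  set t' : (Fin 6 → F) → L := fun x => α (t (gm D *ᵥ x)) with ht'
  have m' : ∀ x, hermForm 6 F 2 x x = 0 → π (t' x) = tau hF x := by
    intro x hx
    apply (dlt ω h0 h3).injective
    rw [hα, dlt_tau hF hx, h.map _ (by rw [hherm]; exact hx)]
  have c' : ∀ (k : L) (g : SU 6 F 2) (x : Fin 6 → F), hermForm 6 F 2 x x = 0 → π k = pr 6 F 2 g →
      k * t' x * k⁻¹ = t' (act g x) := by
    intro k g x hx hk
    obtain ⟨k, rfl⟩ := α.surjective k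
    have e1 : π k = pr 6 F 2 (semiConj D (RingEquiv.refl F) g) := by
      rw [← hα, hk, dlt_pr]
    have e2 := h.conj k _ (gm D *ᵥ x) (by rw [hherm]; exact hx) e1
    have e3 : act (semiConj D (RingEquiv.refl F) g) (gm D *ᵥ x) = gm D *ᵥ act g x := act_dlt g x
    rw [e3] at e2
    show α k * α (t (gm D *ᵥ x)) * (α k)⁻¹ = α (t (gm D *ᵥ act g x))
    rw [← e2, map_mul, map_mul, map_inv]
  have s' : ∀ (k : F) (x : Fin 6 → F), k ≠ 0 → hermForm 6 F 2 x x = 0 → t' (k • x) = t' x := by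
    intro k x hk hx
    show α (t (gm D *ᵥ (k • x))) = α (t (gm D *ᵥ x))
    rw [hsmul, h.smul k _ hk (by rw [hherm]; exact hx)]
  have hker : ∀ x, hermForm 6 F 2 x x = 0 → π (t' x * (t x)⁻¹) = 1 := by
    intro x hx
    rw [map_mul, map_inv, m' x hx, h.map x hx, mul_inv_cancel]
  -- the quotient is constant
  have hconst : ∀ x y : Fin 6 → F, x ≠ 0 → y ≠ 0 → hermForm 6 F 2 x x = 0 → hermForm 6 F 2 y y = 0 →
      t' x * (t x)⁻¹ = t' y * (t y)⁻¹ := by
    intro x y x0 y0 xx yy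
    obtain ⟨g, k, hk0, hg⟩ := exists_map hF x y x0 y0 xx yy
    obtain ⟨l, hl⟩ := hd.surj (pr 6 F 2 g)
    have e1 := c' l g x xx hl
    have e2 := h.conj l g x xx hl
    rw [hg, s' k y hk0 yy] at e1
    rw [hg, h.smul k y hk0 yy] at e2
    have e3 := mem_center_iff.1 (hZ (MonoidHom.mem_ker.2 (hker x xx))) l
    rw [← e1, ← e2]
    calc t' x * (t x)⁻¹ = (l * (t' x * (t x)⁻¹)) * l⁻¹ := by rw [e3, mul_inv_cancel_right]
      _ = _ := by group
  -- the constant is one
  set z := t' (ee 0) * (t (ee 0))⁻¹ with hz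
  have hz1 : π z = 1 := hker _ (herm_ee hF 0 0)
  have hzc : ∀ x : L, z * x = x * z := fun x => (mem_center_iff.1 (hZ hz1) x).symm
  have hzz : z * z = 1 := by
    rcases (hd.ker z).1 hz1 with h4 | h4
    · rw [h4, mul_one]
    · rw [h4, hd.sq]
  have ht : ∀ x : Fin 6 → F, x ≠ 0 → hermForm 6 F 2 x x = 0 → t' x = z * t x := by
    intro x x0 xx
    rw [hz, hconst (ee 0) x (ee_ne_zero 0) x0 (herm_ee hF 0 0) xx, inv_mul_cancel_right]
  have hline := line_ee (F := F) hF (i := 0) (j := 1) (by decide)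
  have hline' : Line (gm D *ᵥ ee 0) (gm D *ᵥ (ee 1 : Fin 6 → F)) :=
    ⟨by rw [hherm]; exact hline.uu, by rw [hherm]; exact hline.vv, by rw [hherm]; exact hline.uv,
      fun e => hline.u0 (hinj _ e), fun k e => hline.np k (by
        rw [← hsmul] at e
        have e1 : gm D *ᵥ (ee 1 - k • ee 0) = 0 := by
          rw [Matrix.mulVec_sub, e, sub_self]
        exact sub_eq_zero.1 (hinj _ e1))⟩
  have l1 := h.line _ _ hline ω hω
  have l2 := h.line _ _ hline' ω hω
  have l3 : t' (ee 0) * t' (ee 1) * t' (ee 0 + ee 1) * t' (ω • ee 0 + ee 1) * t' (ω ^ 2 • ee 0 + ee 1) = 1 := by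
    show α (t _) * α (t _) * α (t _) * α (t _) * α (t _) = 1
    rw [← map_mul, ← map_mul, ← map_mul, ← map_mul, hadd, hadd, hadd, hsmul, hsmul, l2, map_one]
  have hz1' : z = 1 := by
    have e0 := ht _ hline.u0 hline.uu
    have e1 := ht _ (hline.v0) hline.vv
    have e2 := ht (ee 0 + ee 1) (by simpa using hline.ne 1) (by simpa using hline.herm1 hF 1 1)
    have e3 := ht _ (hline.ne ω) (hline.herm1 hF ω ω)
    have e4 := ht _ (hline.ne (ω ^ 2)) (hline.herm1 hF _ _)
    rw [e0, e1, e2, e3, e4] at l3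
    have e5 : z * t (ee 0) * (z * t (ee 1)) * (z * t (ee 0 + ee 1)) * (z * t (ω • ee 0 + ee 1)) *
        (z * t (ω ^ 2 • ee 0 + ee 1)) = z * z * (z * z) * z * (t (ee 0) * t (ee 1) * t (ee 0 + ee 1) *
          t (ω • ee 0 + ee 1) * t (ω ^ 2 • ee 0 + ee 1)) := by
      generalize t (ee 0) = a
      generalize t (ee 1) = b
      generalize t (ee 0 + ee 1) = d
      generalize t (ω • ee 0 + ee 1) = e
      generalize t (ω ^ 2 • ee 0 + ee 1) = f
      calc z * a * (z * b) * (z * d) * (z * e) * (z * f)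
          = z * (a * z) * b * z * d * z * e * z * f := by group
        _ = z * (z * a) * b * z * d * z * e * z * f := by rw [hzc a]
        _ = z * z * ((a * b) * z) * d * z * e * z * f := by group
        _ = z * z * (z * (a * b)) * d * z * e * z * f := by rw [hzc (a * b)]
        _ = z * z * z * ((a * b * d) * z) * e * z * f := by group
        _ = z * z * z * (z * (a * b * d)) * e * z * f := by rw [hzc (a * b * d)]
        _ = z * z * z * z * ((a * b * d * e) * z) * f := by group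
        _ = z * z * z * z * (z * (a * b * d * e)) * f := by rw [hzc (a * b * d * e)]
        _ = _ := by group
    rw [e5, l1, hzz, one_mul, one_mul, mul_one] at l3
    exact l3
  have htt : ∀ x : Fin 6 → F, hermForm 6 F 2 x x = 0 → t' x = t x := by
    intro x xx
    by_cases x0 : x = 0
    · rw [x0]
      show α (t (gm D *ᵥ 0)) = t 0
      rw [Matrix.mulVec_zero, h.zero, map_one]
    · rw [ht x x0 xx, hz1', one_mul]
  -- invariance of the third difference
  have hdd : ∀ {u v w : Fin 6 → F} (p : Tri u v w), dd t u v w = dd t (gm D *ᵥ u) (gm D *ᵥ v) (gm D *ᵥ w) := by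
    intro u v w p
    have p' : Tri (gm D *ᵥ u) (gm D *ᵥ v) (gm D *ᵥ w) :=
      ⟨by rw [hherm]; exact p.uu, by rw [hherm]; exact p.vv, by rw [hherm]; exact p.ww, by rw [hherm]; exact p.uv,
        by rw [hherm]; exact p.uw, by rw [hherm]; exact p.vw, fun a b c e => p.ind a b c (by
          rw [← hsmul, ← hsmul, ← hsmul, ← hadd, ← hadd] at e
          exact hinj _ e)⟩
    have e1 : dd t' u v w = α (dd t (gm D *ᵥ u) (gm D *ᵥ v) (gm D *ᵥ w)) := by
      unfold dd yy
      simp only [ht', map_mul, hadd]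
    have hvu := herm_eq_zero_swap hF p.uv
    have hwu := herm_eq_zero_swap hF p.uw
    have hwv := herm_eq_zero_swap hF p.vw
    have e2 : dd t' u v w = dd t u v w := by
      unfold dd yy
      rw [htt u p.uu, htt v p.vv, htt w p.ww, htt (v + w) (p.pvw.add hF), htt (u + v) (p.puv.add hF),
        htt (u + w) (p.puw.add hF), htt (u + (v + w)) ?_]
      simp only [herm_add_left, herm_add_right hF, p.uu, p.vv, p.ww, p.uv, p.uw, p.vw, hvu, hwu, hwv, add_zero]
    rw [← e2, e1, hαf _ (dd_ker h p')]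
  have q : ∀ k : F, k ≠ 0 → Tri (ee 0) (ee 1) (k • ee 2) := fun k hk => by
    have := (tri_eee hF hω).smul hF one_ne_zero one_ne_zero hk
    rwa [one_smul, one_smul] at this
  have hshift : ∀ k : F, k ≠ 0 → dd t (ee 0) (ee 1) (k • ee 2) = dd t (ee 0) (ee 1) ((ω * k) • ee 2) := by
    intro k hk
    obtain ⟨g, g0, g2, g1⟩ := exists_diag hF hω (i := 0) (j := 2) (by decide) (inv_ne_zero h0)
    have e1 := hdd (q k hk)
    rw [hsmul, gm_ee0, gm_ee1, gm_ee2] at e1
    have p1 : Tri (ω • ee 0 : Fin 6 → F) (ee 1) (k • ee 2) := by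
      have := (tri_eee hF hω).smul hF h0 one_ne_zero hk
      rwa [one_smul] at this
    have e2 := dd_act h hd.surj hZ p1 g
    rw [act_smul, act_smul, g0, g1 1 (by decide) (by decide), g2, smul_smul, mul_inv_cancel₀ h0, one_smul, smul_smul,
      inv_inv, mul_comm k ω] at e2
    rw [e1, e2]
  have a1 := hshift 1 one_ne_zero
  have a2 := hshift ω h0
  rw [one_smul, mul_one] at a1
  rw [← pow_two] at a2
  have a3 := dd_three h (tri_eee hF hω) hω
  rw [← a2, ← a1, dd_sq h (tri_eee hF hω), one_mul] at a3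
  have hall : ∀ {u v w : Fin 6 → F} (p : Tri u v w), dd t u v w = 1 := by
    intro u v w p
    rcases dd_cases h hd.surj hZ hω p with e | e | e
    · rw [e, a3]
    · rw [e, ← a1, a3]
    · rw [e, ← a2, ← a1, a3]
  refine false_of_bi hd h fun u v w p => ?_
  have pvw : PP u (v + w) := ⟨p.uu, p.pvw.add hF, by rw [herm_add_right hF, p.uv, p.uw, add_zero]⟩
  have h3' : yy t u (v + w) * yy t u v * yy t u w = 1 := hall p
  have s1 := y_sq h p.puv
  have s2 := y_sq h p.puw
  calc yy t u (v + w) = (yy t u (v + w) * yy t u v * yy t u w) * (yy t u w)⁻¹ * (yy t u v)⁻¹ := by group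
    _ = (yy t u w)⁻¹ * (yy t u v)⁻¹ := by rw [h3', one_mul]
    _ = (yy t u v * yy t u w)⁻¹ := by rw [mul_inv_rev]
    _ = (yy t u w * yy t u v)⁻¹ := by
        rw [MW_comm h (p.ti hF) (y_mem (Submodule.subset_span (by simp)) (Submodule.subset_span (by simp)))
          (y_mem (Submodule.subset_span (by simp)) (Submodule.subset_span (by simp)))]
    _ = (yy t u v)⁻¹ * (yy t u w)⁻¹ := by rw [mul_inv_rev]
    _ = _ := by rw [inv_eq_of_mul_eq_one_left s1, inv_eq_of_mul_eq_one_left s2]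

end NoIso

end Cfsg.Agent.H133.USixTwo
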