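import Cfsg.Agent.KFacts.OddLift.USixL.Diff
import Cfsg.Agent.H48.Crit
import Cfsg.Agent.H51.Mult
import Cfsg.Agent.S0278
import Cfsg.Agent.H133.USixTwo
import Cfsg.Agent.LieClassical.HermPerfect
import Cfsg.Agent.LieClassical.FieldTransfer
import Cfsg.Agent.H487.SchurMult
import Cfsg.Agent.S0279
import Cfsg.Agent.S0471
import Cfsg.Agent.Lib.FieldFour
set_option linter.all false

-- part: H133/USixThree
section
/-!
# The 3-part of the multiplier of `SU₆(2)` is trivial

* `chain`: a subgroup of order `3 ^ n` from a sequence of elements of order 3.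
* `Mono X`: elements `d i j` and a homomorphism `ρ : S₆ → X` with the relations of the diagonal matrices
  `diag(…, ω, …, ω², …)` and of the permutation matrices.
* `Mono.DD`: canonical lifts of the `d i j` to a perfect central extension with kernel of exponent 3; they satisfy the
  same relations.
* `noCov_three`: no perfect central extension of `SU₆(2)` with kernel of order 3.
-/

set_option autoImplicit false
set_option linter.unusedSectionVars false
set_option linter.unusedVariables false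

namespace Cfsg.Agent.H133.USixThree

open Subgroup Cfsg Cfsg.Agent.LieClassical.HermBasic Cfsg.Agent.ClassicalGeometry.UnitTransv
  Cfsg.Agent.SporadicStructure.UnitTwo Cfsg.Agent.KFacts.OddLift.USixL Cfsg.Agent.H51.Mult
open scoped Matrix commutatorElement

universe u v

/-! ### A chain of subgroups -/

section chain

variable {K : Type u} {X : Type v} [Group K] [Group X]

theorem mem_zp {y : K} (h3 : y ^ 3 = 1) {r : K} (hr : r ∈ zpowers y) : r = 1 ∨ r = y ∨ r = y ^ 2 := by
  obtain ⟨k, rfl⟩ := mem_zpowers_iff.1 hr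
  have h1 : y ^ k = y ^ (k % 3) := by
    rw [zpow_eq_zpow_emod k (n := 3)]
    rw [zpow_ofNat]; exact h3
  rw [h1]
  have h2 := Int.emod_nonneg k (show (3 : ℤ) ≠ 0 by norm_num)
  have h4 := Int.emod_lt_of_pos k (show (0 : ℤ) < 3 by norm_num)
  rcases (show k % 3 = 0 ∨ k % 3 = 1 ∨ k % 3 = 2 by omega) with h | h | h <;> rw [h]
  · left; exact zpow_zero y
  · right; left; exact zpow_one y
  · right; right; exact zpow_ofNat y 2

theorem chain (f : K →* X) (y : ℕ → K) (S : ℕ → Subgroup X) :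
    ∀ n : ℕ, (∀ i, i < n → y i ^ 3 = 1) → (∀ j, j < n → f (y j) ∉ S j) → (∀ i j, i < j → j < n → f (y i) ∈ S j) →
      (∀ i j, i < j → j < n → y j * y i * (y j)⁻¹ ∈ closure (y '' Set.Iio j)) →
      St f (closure (y '' Set.Iio n)) (3 ^ n) := by
  intro n
  induction n with
  | zero =>
    intro _ _ _ _
    have e : y '' Set.Iio 0 = ∅ := by
      rw [Set.image_eq_empty]
      ext i
      simp
    rw [e, Subgroup.closure_empty]
    exact ⟨fun a ha _ => by rwa [mem_bot] at ha, by rw [Subgroup.card_bot, pow_zero]⟩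
  | succ n ih =>
    intro h3' h1 h2 hn
    have h3 : y n ^ 3 = 1 := h3' n (by omega)
    have hA := ih (fun j hj => h3' j (by omega)) (fun j hj => h1 j (by omega)) (fun i j hi hj => h2 i j hi (by omega))
      (fun i j hi hj => hn i j hi (by omega))
    set A := closure (y '' Set.Iio n) with hAdef
    have hcl : closure (y '' Set.Iio (n + 1)) = zpowers (y n) ⊔ A := by
      have e : y '' Set.Iio (n + 1) = {y n} ∪ y '' Set.Iio n := by
        ext x
        simp only [Set.mem_image, Set.mem_Iio, Set.mem_union, Set.mem_singleton_iff]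
        constructor
        · rintro ⟨i, hi, rfl⟩
          rcases (show i = n ∨ i < n by omega) with h | h
          · left; rw [h]
          · right; exact ⟨i, h, rfl⟩
        · rintro (rfl | ⟨i, hi, rfl⟩)
          · exact ⟨n, by omega, rfl⟩
          · exact ⟨i, by omega, rfl⟩
      rw [e, Subgroup.closure_union, Subgroup.zpowers_eq_closure]
    have hAS : ∀ a ∈ A, f a ∈ S n := by
      intro a ha
      have h4 : A ≤ (S n).comap f := by
        rw [hAdef, closure_le]
        rintro _ ⟨i, hi, rfl⟩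
        exact h2 i n hi (by omega)
      exact h4 ha
    have hy1 : f (y n) ∉ S n := h1 n (by omega)
    have hy2 : f (y n) ^ 2 ∉ S n := by
      intro h4
      apply hy1
      have h5 := pow_mem h4 2
      have h6 : f (y n) ^ 3 = 1 := by rw [← map_pow, h3, map_one]
      have h7 : (f (y n) ^ 2) ^ 2 = f (y n) := by
        rw [← pow_mul]
        show f (y n) ^ 4 = f (y n)
        rw [pow_succ, h6, one_mul]
      rwa [h7] at h5
    have hR : St f (zpowers (y n)) 3 := by
      refine ⟨?_, ?_⟩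
      · intro r hr hfr
        rcases mem_zp h3 hr with h | h | h
        · exact h
        · rw [h] at hfr
          exact absurd (hfr ▸ one_mem _) hy1
        · rw [h, map_pow] at hfr
          exact absurd (hfr ▸ one_mem _) hy2
      · rw [Nat.card_zpowers]
        exact orderOf_eq_prime h3 (fun h => hy1 (by rw [h, map_one]; exact one_mem _))
    have hnorm : ∀ a ∈ A, y n * a * (y n)⁻¹ ∈ A := by
      intro a ha
      have h4 : A ≤ A.comap (MulAut.conj (y n)).toMonoidHom := by
        conv_lhs => rw [hAdef]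
        rw [closure_le]
        rintro _ ⟨i, hi, rfl⟩
        exact hn i n hi (by omega)
      exact h4 ha
    rw [hcl, pow_succ, mul_comm]
    refine hA.step hR ?_ ?_
    · intro r hr a ha
      rcases mem_zp h3 hr with h | h | h
      · rw [h, one_mul, inv_one, mul_one]; exact ha
      · rw [h]; exact hnorm a ha
      · rw [h, pow_two, mul_inv_rev]
        have := hnorm _ (hnorm a ha)
        have e : y n * (y n * a * (y n)⁻¹) * (y n)⁻¹ = y n * y n * a * ((y n)⁻¹ * (y n)⁻¹) := by group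
        rwa [e] at this
    · intro a ha r hr hfr
      have h4 := hAS a ha
      rw [hfr] at h4
      rcases mem_zp h3 hr with h | h | h
      · rw [h, map_one]
      · rw [h] at h4; exact absurd h4 hy1
      · rw [h, map_pow] at h4; exact absurd h4 hy2

end chain

/-! ### Monomial data and their lifts -/

/-- the relations of the diagonal and the permutation matrices -/
structure Mono (X : Type v) [Group X] where
  d : Fin 6 → Fin 6 → X
  ρ : Equiv.Perm (Fin 6) →* X
  mul : ∀ i j k, d i j * d j k = d i k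
  comm : ∀ i j k l, d i j * d k l = d k l * d i j
  cube : ∀ i j, d i j ^ 3 = 1
  conj : ∀ σ i j, ρ σ * d i j * (ρ σ)⁻¹ = d (σ i) (σ j)

namespace Mono

variable {X : Type v} [Group X] (M : Mono X)

theorem self (i : Fin 6) : M.d i i = 1 := by
  have := M.mul i i i
  exact mul_eq_left.1 this

theorem inv (i j : Fin 6) : (M.d i j)⁻¹ = M.d j i := by
  rw [inv_eq_iff_mul_eq_one, M.mul, M.self]

section lift

variable {L : Type u} [Group L] {π : L →* X} (hs : Function.Surjective π) (hz : π.ker ≤ center L)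
  (h3 : ∀ z : L, π z = 1 → z ^ 3 = 1)

/-- canonical lifts -/
noncomputable def DD (hs : Function.Surjective π) (i j : Fin 6) : L :=
  Function.surjInv hs (M.d i j) * (Function.surjInv hs (M.ρ (Equiv.swap i j)) * Function.surjInv hs (M.d i j) *
    (Function.surjInv hs (M.ρ (Equiv.swap i j)))⁻¹) * Function.surjInv hs (M.d i j)

include hz h3

theorem DD_eq {i j : Fin 6} {y s : L} (hy : π y = M.d i j) (hsw : π s = M.ρ (Equiv.swap i j)) :
    y * (s * y * s⁻¹) * y = M.DD hs i j := by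
  unfold DD
  have e1 : π (Function.surjInv hs (M.d i j)) = M.d i j := Function.surjInv_eq hs _
  have e2 : π (Function.surjInv hs (M.ρ (Equiv.swap i j))) = M.ρ (Equiv.swap i j) := Function.surjInv_eq hs _
  generalize Function.surjInv hs (M.d i j) = a at *
  generalize Function.surjInv hs (M.ρ (Equiv.swap i j)) = t at *
  have cz : ∀ z : L, π z = 1 → ∀ g : L, g * z = z * g := fun z h g => mem_center_iff.1 (hz h) g
  obtain ⟨z, hz1, rfl⟩ : ∃ z, π z = 1 ∧ y = z * a := ⟨y * a⁻¹, by rw [map_mul, map_inv, hy, e1, mul_inv_cancel], by group⟩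
  obtain ⟨w, hw1, rfl⟩ : ∃ w, π w = 1 ∧ s = w * t := ⟨s * t⁻¹, by rw [map_mul, map_inv, hsw, e2, mul_inv_cancel], by group⟩
  have c1 := cz z hz1
  have c2 := cz w hw1
  have z3 : z * z * z = 1 := by rw [← h3 z hz1, pow_succ, pow_two]
  calc z * a * (w * t * (z * a) * (w * t)⁻¹) * (z * a)
      = z * a * (w * (t * z) * a * t⁻¹ * w⁻¹) * (z * a) := by group
    _ = z * a * (w * (z * t * a * t⁻¹) * w⁻¹) * (z * a) := by rw [c1 t]; group
    _ = z * a * ((z * t * a * t⁻¹) * w * w⁻¹) * (z * a) := by rw [c2]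
    _ = z * (a * z) * t * a * t⁻¹ * z * a := by group
    _ = z * z * ((a * t * a * t⁻¹) * z) * a := by rw [c1 a]; group
    _ = (z * z * z) * (a * (t * a * t⁻¹) * a) := by rw [c1 (a * t * a * t⁻¹)]; group
    _ = _ := by rw [z3, one_mul]

theorem map_DD (i j : Fin 6) : π (M.DD hs i j) = M.d i j := by
  unfold DD
  rw [map_mul, map_mul, map_mul, map_mul, map_inv, Function.surjInv_eq hs, Function.surjInv_eq hs, M.conj,
    Equiv.swap_apply_left, Equiv.swap_apply_right, M.mul, M.self, one_mul]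

theorem DD_conj {g : L} {σ : Equiv.Perm (Fin 6)} (hg : π g = M.ρ σ) (i j : Fin 6) :
    g * M.DD hs i j * g⁻¹ = M.DD hs (σ i) (σ j) := by
  have e1 : π (g * Function.surjInv hs (M.d i j) * g⁻¹) = M.d (σ i) (σ j) := by
    rw [map_mul, map_mul, map_inv, Function.surjInv_eq hs, hg, M.conj]
  have e2 : π (g * Function.surjInv hs (M.ρ (Equiv.swap i j)) * g⁻¹) = M.ρ (Equiv.swap (σ i) (σ j)) := by
    rw [map_mul, map_mul, map_inv, Function.surjInv_eq hs, hg, ← map_mul, ← map_inv, ← map_mul,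
      Equiv.mul_swap_eq_swap_mul, mul_inv_cancel_right]
  rw [← M.DD_eq hs hz h3 e1 e2]
  unfold DD
  group

theorem DD_inv (i j : Fin 6) : (M.DD hs i j)⁻¹ = M.DD hs j i := by
  have e1 : π (Function.surjInv hs (M.d i j))⁻¹ = M.d j i := by
    rw [map_inv, Function.surjInv_eq hs, M.inv]
  have e2 : π (Function.surjInv hs (M.ρ (Equiv.swap i j))) = M.ρ (Equiv.swap j i) := by
    rw [Function.surjInv_eq hs, Equiv.swap_comm]
  rw [← M.DD_eq hs hz h3 e1 e2]
  unfold DD
  group

theorem eq_one_of_sq {z : L} (hz1 : π z = 1) (h2 : z = z⁻¹) : z = 1 := by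
  have h4 : z * z = 1 := by
    nth_rewrite 2 [h2]
    exact mul_inv_cancel z
  have h5 := h3 z hz1
  rwa [pow_succ, pow_two, h4, one_mul] at h5

theorem DD_self (i : Fin 6) : M.DD hs i i = 1 := by
  apply eq_one_of_sq hz h3
  · rw [M.map_DD hs hz h3, M.self]
  · rw [M.DD_inv hs hz h3]

theorem DD_mul (i j k : Fin 6) : M.DD hs i j * M.DD hs j k = M.DD hs i k := by
  by_cases hij : j = i
  · subst hij; rw [M.DD_self hs hz h3, one_mul]
  by_cases hjk : j = k
  · subst hjk; rw [M.DD_self hs hz h3, mul_one]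
  obtain ⟨g, hg⟩ := hs (M.ρ (Equiv.swap i k))
  have hzk : π (M.DD hs i j * M.DD hs j k * (M.DD hs i k)⁻¹) = 1 := by
    rw [map_mul, map_mul, map_inv, M.map_DD hs hz h3, M.map_DD hs hz h3, M.map_DD hs hz h3, M.mul, mul_inv_cancel]
  set z := M.DD hs i j * M.DD hs j k * (M.DD hs i k)⁻¹ with hzdef
  have hc := mem_center_iff.1 (hz hzk) g
  have e1 : g * z * g⁻¹ = M.DD hs k j * M.DD hs j i * (M.DD hs k i)⁻¹ := by
    have e2 := M.DD_conj hs hz h3 hg i j
    have e3 := M.DD_conj hs hz h3 hg j k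
    have e4 := M.DD_conj hs hz h3 hg i k
    rw [Equiv.swap_apply_left, Equiv.swap_apply_of_ne_of_ne hij hjk] at e2
    rw [Equiv.swap_apply_right, Equiv.swap_apply_of_ne_of_ne hij hjk] at e3
    rw [Equiv.swap_apply_left, Equiv.swap_apply_right] at e4
    rw [← e2, ← e3, ← e4, hzdef]
    group
  have e2 : g * z * g⁻¹ = z := by rw [hc, mul_inv_cancel_right]
  have e3 : M.DD hs i j * M.DD hs j k = z * M.DD hs i k := by rw [hzdef]; group
  have hz1 : z = 1 := by
    apply eq_one_of_sq hz h3 hzk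
    have e5 : M.DD hs k j * M.DD hs j i = z * (M.DD hs i k)⁻¹ := by
      rw [M.DD_inv hs hz h3 i k]
      rw [← e2, e1]
      group
    have e6 : (M.DD hs i j * M.DD hs j k)⁻¹ = M.DD hs k j * M.DD hs j i := by
      rw [mul_inv_rev, M.DD_inv hs hz h3, M.DD_inv hs hz h3]
    rw [e5, e3, mul_inv_rev] at e6
    -- `(D i k)⁻¹ z⁻¹ = z (D i k)⁻¹`
    have hc2 := mem_center_iff.1 (hz hzk) (M.DD hs i k)⁻¹
    rw [← hc2] at e6
    exact (mul_left_cancel e6).symm
  rw [e3, hz1, one_mul]

theorem DD_comm' (i j k : Fin 6) : M.DD hs i j * M.DD hs j k = M.DD hs j k * M.DD hs i j := by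
  by_cases hij : j = i
  · subst hij; rw [M.DD_self hs hz h3, one_mul, mul_one]
  by_cases hjk : j = k
  · subst hjk; rw [M.DD_self hs hz h3, one_mul, mul_one]
  obtain ⟨g, hg⟩ := hs (M.ρ (Equiv.swap i k))
  have hzk : π (M.DD hs i j * M.DD hs j k * (M.DD hs j k * M.DD hs i j)⁻¹) = 1 := by
    rw [map_mul, map_inv, map_mul, map_mul, M.map_DD hs hz h3, M.map_DD hs hz h3, M.comm j k i j, mul_inv_cancel]
  have e1 : g * (M.DD hs i j * M.DD hs j k * (M.DD hs j k * M.DD hs i j)⁻¹) * g⁻¹ =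
      M.DD hs k j * M.DD hs j i * (M.DD hs j i * M.DD hs k j)⁻¹ := by
    have e2 := M.DD_conj hs hz h3 hg i j
    have e3 := M.DD_conj hs hz h3 hg j k
    rw [Equiv.swap_apply_left, Equiv.swap_apply_of_ne_of_ne hij hjk] at e2
    rw [Equiv.swap_apply_right, Equiv.swap_apply_of_ne_of_ne hij hjk] at e3
    rw [← e2, ← e3]
    group
  have hc := mem_center_iff.1 (hz hzk)
  have hc1 := hc g
  rw [hc1, mul_inv_cancel_right, ← M.DD_inv hs hz h3 j k, ← M.DD_inv hs hz h3 i j] at e1
  set z := M.DD hs i j * M.DD hs j k * (M.DD hs j k * M.DD hs i j)⁻¹ with hzdef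
  have e3 : M.DD hs i j * M.DD hs j k = z * (M.DD hs j k * M.DD hs i j) := by rw [hzdef]; group
  generalize M.DD hs i j = a at *
  generalize M.DD hs j k = b at *
  have hz1 : z = 1 := by
    apply eq_one_of_sq hz h3 hzk
    have e4 : z = (a * b)⁻¹ * (b * a) := by rw [e1]; group
    rw [e3, mul_inv_rev] at e4
    have e7 : z * (b * a) = z⁻¹ * (b * a) := by
      rw [← hc (b * a)]
      nth_rewrite 1 [e4]
      group
    exact mul_right_cancel e7
  rw [e3, hz1, one_mul]

theorem DD_comm (j k : Fin 6) : M.DD hs 0 j * M.DD hs 0 k = M.DD hs 0 k * M.DD hs 0 j := by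
  have h1 : Commute (M.DD hs j 0) (M.DD hs 0 k) := M.DD_comm' hs hz h3 j 0 k
  have h2 := h1.inv_left
  rw [M.DD_inv hs hz h3] at h2
  exact h2

theorem DD_cube (i j : Fin 6) : M.DD hs i j ^ 3 = 1 := by
  have hzk : π (M.DD hs i j ^ 3) = 1 := by
    rw [map_pow, M.map_DD hs hz h3, M.cube]
  apply eq_one_of_sq hz h3 hzk
  obtain ⟨g, hg⟩ := hs (M.ρ (Equiv.swap i j))
  have e2 := M.DD_conj hs hz h3 hg i j
  rw [Equiv.swap_apply_left, Equiv.swap_apply_right, ← M.DD_inv hs hz h3 i j] at e2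
  have hc := mem_center_iff.1 (hz hzk) g
  calc M.DD hs i j ^ 3 = g * M.DD hs i j ^ 3 * g⁻¹ := by rw [hc, mul_inv_cancel_right]
    _ = (g * M.DD hs i j * g⁻¹) ^ 3 := by rw [conj_pow]
    _ = (M.DD hs i j ^ 3)⁻¹ := by rw [e2, inv_pow]

end lift

end Mono

/-! ### No cover of order three -/

/-- the sequence of generators -/
def sq {K : Type*} (x : Fin 6 → K) (a b : K) : ℕ → K
  | 0 => x 1
  | 1 => x 2
  | 2 => x 3
  | 3 => x 4
  | 4 => x 5
  | 5 => a
  | _ => b

theorem map_sq {K L : Type*} [Group K] [Group L] (f : K →* L) (x : Fin 6 → K) (a b : K) (i : ℕ) :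
    f (sq x a b i) = sq (fun j => f (x j)) (f a) (f b) i := by
  match i with
  | 0 => rfl
  | 1 => rfl
  | 2 => rfl
  | 3 => rfl
  | 4 => rfl
  | 5 => rfl
  | (n + 6) => rfl

/-- `(0 1 2)` -/
def a0 : Equiv.Perm (Fin 6) := Equiv.swap 0 1 * Equiv.swap 1 2

/-- `(3 4 5)` -/
def b0 : Equiv.Perm (Fin 6) := Equiv.swap 3 4 * Equiv.swap 4 5

theorem a0_cube : a0 ^ 3 = 1 := by decide
theorem b0_cube : b0 ^ 3 = 1 := by decide
theorem ab_comm : a0 * b0 = b0 * a0 := by decide
theorem swap_a0 : Equiv.swap 0 1 * a0 * (Equiv.swap 0 1)⁻¹ = a0⁻¹ := by decide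
theorem swap_b0 : Equiv.swap 0 1 * b0 * (Equiv.swap 0 1)⁻¹ = b0 := by decide

section seq

variable {K : Type u} [Group K] {x : Fin 6 → K} {a b : K}

theorem x_mem (h0 : x 0 = 1) (k : Fin 6) : x k ∈ closure (sq x a b '' Set.Iio 5) := by
  fin_cases k
  · show x 0 ∈ _
    rw [h0]; exact one_mem _
  · exact subset_closure ⟨0, by simp, rfl⟩
  · exact subset_closure ⟨1, by simp, rfl⟩
  · exact subset_closure ⟨2, by simp, rfl⟩
  · exact subset_closure ⟨3, by simp, rfl⟩
  · exact subset_closure ⟨4, by simp, rfl⟩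

theorem sq_eq (i : ℕ) (hi : i < 5) : ∃ k : Fin 6, sq x a b i = x k := by
  match i, hi with
  | 0, _ => exact ⟨1, rfl⟩
  | 1, _ => exact ⟨2, rfl⟩
  | 2, _ => exact ⟨3, rfl⟩
  | 3, _ => exact ⟨4, rfl⟩
  | 4, _ => exact ⟨5, rfl⟩

theorem mono_Iio {m n : ℕ} (h : m ≤ n) (y : ℕ → K) : closure (y '' Set.Iio m) ≤ closure (y '' Set.Iio n) :=
  closure_mono (Set.image_mono (Set.Iio_subset_Iio h))

/-- normalisation in the sequence -/
theorem sq_norm (h0 : x 0 = 1) (hxx : ∀ i j, x i * x j = x j * x i)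
    (hax : ∀ k, a * x k * a⁻¹ ∈ closure (sq x a b '' Set.Iio 5))
    (hbx : ∀ k, b * x k * b⁻¹ ∈ closure (sq x a b '' Set.Iio 5)) (hab : b * a * b⁻¹ = a) :
    ∀ i j, i < j → j < 7 → sq x a b j * sq x a b i * (sq x a b j)⁻¹ ∈ closure (sq x a b '' Set.Iio j) := by
  intro i j hi hj
  rcases (show j < 5 ∨ j = 5 ∨ j = 6 by omega) with h | h | h
  · obtain ⟨k, hk⟩ := sq_eq (x := x) (a := a) (b := b) j h
    obtain ⟨l, hl⟩ := sq_eq (x := x) (a := a) (b := b) i (by omega)
    have e : sq x a b j * sq x a b i * (sq x a b j)⁻¹ = sq x a b i := by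
      rw [hk, hl, hxx, mul_inv_cancel_right]
    rw [e]
    exact subset_closure ⟨i, hi, rfl⟩
  · subst h
    obtain ⟨l, hl⟩ := sq_eq (x := x) (a := a) (b := b) i (by omega)
    rw [hl]
    exact hax l
  · subst h
    rcases (show i < 5 ∨ i = 5 by omega) with h | h
    · obtain ⟨l, hl⟩ := sq_eq (x := x) (a := a) (b := b) i h
      rw [hl]
      exact mono_Iio (by norm_num) _ (hbx l)
    · subst h
      have e : sq x a b 6 * sq x a b 5 * (sq x a b 6)⁻¹ = sq x a b 5 := hab
      rw [e]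
      exact subset_closure ⟨5, by simp, rfl⟩

end seq

theorem noCov_of_mono {X : Type v} [Group X] (M : Mono X) (S : ℕ → Subgroup X)
    (h1 : ∀ j, j < 7 → sq (M.d 0) (M.ρ a0) (M.ρ b0) j ∉ S j)
    (h2 : ∀ i j, i < j → j < 7 → sq (M.d 0) (M.ρ a0) (M.ρ b0) i ∈ S j)
    {m : ℕ} (hm : Nat.card X = m * 3 ^ 7) (hm3 : ¬ 3 ∣ m) : NoCov 3 X := by
  intro L _ _ π h hcard
  have hker : IsPGroup 3 π.ker := IsPGroup.of_card (n := 1) (by rw [hcard, pow_one])
  have h3 : ∀ z : L, π z = 1 → z ^ 3 = 1 := by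
    intro z hz
    have h4 := pow_card_eq_one' (x := (⟨z, hz⟩ : π.ker))
    rw [hcard] at h4
    exact congrArg Subtype.val h4
  have hs := h.surj
  have hz := h.cen
  obtain ⟨a, ha⟩ := hs (M.ρ a0)
  obtain ⟨b, hb⟩ := hs (M.ρ b0)
  obtain ⟨s, hsw⟩ := hs (M.ρ (Equiv.swap 0 1))
  set x : Fin 6 → L := fun j => M.DD hs 0 j with hx
  have hx0 : x 0 = 1 := M.DD_self hs hz h3 0
  have hxx : ∀ i j, x i * x j = x j * x i := M.DD_comm hs hz h3
  have hπx : ∀ j, π (x j) = M.d 0 j := fun j => M.map_DD hs hz h3 0 j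
  have hdd : ∀ i j, M.DD hs i j = (x i)⁻¹ * x j := by
    intro i j
    rw [hx]
    show _ = (M.DD hs 0 i)⁻¹ * M.DD hs 0 j
    rw [M.DD_inv hs hz h3, M.DD_mul hs hz h3]
  set C := closure (sq x a b '' Set.Iio 5) with hC
  have hxC : ∀ k, x k ∈ C := x_mem hx0
  have hgx : ∀ {g : L} {σ : Equiv.Perm (Fin 6)}, π g = M.ρ σ → ∀ k, g * x k * g⁻¹ ∈ C := by
    intro g σ hg k
    have e1 : g * x k * g⁻¹ = M.DD hs (σ 0) (σ k) := M.DD_conj hs hz h3 hg 0 k
    rw [e1, hdd]
    exact mul_mem (inv_mem (hxC _)) (hxC _)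
  have hgC : ∀ {g : L} {σ : Equiv.Perm (Fin 6)}, π g = M.ρ σ → ∀ c ∈ C, g * c * g⁻¹ ∈ C := by
    intro g σ hg c hc
    have h4 : C ≤ C.comap (MulAut.conj g).toMonoidHom := by
      conv_lhs => rw [hC]
      rw [closure_le]
      rintro _ ⟨i, hi, rfl⟩
      obtain ⟨k, hk⟩ := sq_eq (x := x) (a := a) (b := b) i hi
      rw [hk]
      exact hgx hg k
    exact h4 hc
  -- `a` and `b` commute
  have hab : a * b = b * a := by
    have hzk : π (a * b * (b * a)⁻¹) = 1 := by
      rw [map_mul, map_inv, map_mul, map_mul, ha, hb, ← map_mul, ← map_mul, ab_comm, mul_inv_cancel]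
    have hc := mem_center_iff.1 (hz hzk)
    obtain ⟨z, hz1, hz2⟩ : ∃ z, π z = 1 ∧ s * a * s⁻¹ = a⁻¹ * z := by
      refine ⟨a * (s * a * s⁻¹), ?_, by group⟩
      rw [map_mul, map_mul, map_mul, map_inv, ha, hsw, ← map_mul, ← map_inv, ← map_mul, ← map_mul, swap_a0,
        mul_inv_cancel, map_one]
    obtain ⟨w, hw1, hw2⟩ : ∃ w, π w = 1 ∧ s * b * s⁻¹ = b * w := by
      refine ⟨b⁻¹ * (s * b * s⁻¹), ?_, by group⟩
      rw [map_mul, map_mul, map_mul, map_inv, map_inv, hb, hsw, ← map_mul, ← map_inv, ← map_inv, ← map_mul, ← map_mul,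
        swap_b0, inv_mul_cancel, map_one]
    have cz := mem_center_iff.1 (hz hz1)
    have cw := mem_center_iff.1 (hz hw1)
    set e := a * b * (b * a)⁻¹ with he
    have e1 : e = a⁻¹ * b * (b * a⁻¹)⁻¹ := by
      calc e = s * e * s⁻¹ := by rw [hc s, mul_inv_cancel_right]
        _ = (s * a * s⁻¹) * (s * b * s⁻¹) * ((s * b * s⁻¹) * (s * a * s⁻¹))⁻¹ := by rw [he]; group
        _ = (a⁻¹ * z) * (b * w) * ((b * w) * (a⁻¹ * z))⁻¹ := by rw [hz2, hw2]
        _ = a⁻¹ * (z * b) * w * z⁻¹ * a * w⁻¹ * b⁻¹ := by group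
        _ = a⁻¹ * b * (z * w * z⁻¹) * a * w⁻¹ * b⁻¹ := by rw [← cz b]; group
        _ = a⁻¹ * b * (w * a) * w⁻¹ * b⁻¹ := by rw [← cz w, mul_inv_cancel_right]; group
        _ = a⁻¹ * b * (a * w) * w⁻¹ * b⁻¹ := by rw [← cw a]
        _ = _ := by group
    have e2 : e = 1 := by
      apply Mono.eq_one_of_sq hz h3 hzk
      have e3 : e = a⁻¹ * e⁻¹ * a := by
        calc e = a⁻¹ * b * (b * a⁻¹)⁻¹ := e1
          _ = a⁻¹ * (a * b * (b * a)⁻¹)⁻¹ * a := by group
          _ = a⁻¹ * e⁻¹ * a := by rw [← he]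
      have e4 : a * e = e⁻¹ * a := by
        calc a * e = a * (a⁻¹ * e⁻¹ * a) := by rw [← e3]
          _ = e⁻¹ * a := by group
      rw [hc a] at e4
      exact mul_right_cancel e4
    have e5 : a * b = e * (b * a) := by rw [he]; group
    rw [e5, e2, one_mul]
  -- the index
  have hidx : ¬ 3 ∣ (closure (π '' (sq x a b '' Set.Iio 7))).index := by
    have e1 : π '' (sq x a b '' Set.Iio 7) = sq (M.d 0) (M.ρ a0) (M.ρ b0) '' Set.Iio 7 := by
      rw [Set.image_image]
      apply Set.image_congr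
      intro i _
      rw [map_sq, ha, hb]
      congr 1
      funext j
      exact hπx j
    have hy0 : M.d 0 0 = 1 := M.self 0
    have hyC : ∀ k, M.d 0 k ∈ closure (sq (M.d 0) (M.ρ a0) (M.ρ b0) '' Set.Iio 5) := x_mem hy0
    have hyg : ∀ (σ : Equiv.Perm (Fin 6)) (k : Fin 6), M.ρ σ * M.d 0 k * (M.ρ σ)⁻¹ ∈
        closure (sq (M.d 0) (M.ρ a0) (M.ρ b0) '' Set.Iio 5) := by
      intro σ k
      have e2 : M.d (σ 0) (σ k) = (M.d 0 (σ 0))⁻¹ * M.d 0 (σ k) := by rw [M.inv, M.mul]
      rw [M.conj, e2]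
      exact mul_mem (inv_mem (hyC _)) (hyC _)
    have h4 := chain (MonoidHom.id X) (sq (M.d 0) (M.ρ a0) (M.ρ b0)) S 7 (by
      intro i hi
      rcases (show i < 5 ∨ i = 5 ∨ i = 6 by omega) with h | h | h
      · obtain ⟨k, hk⟩ := sq_eq (x := M.d 0) (a := M.ρ a0) (b := M.ρ b0) i h
        rw [hk, M.cube]
      · subst h
        show M.ρ a0 ^ 3 = 1
        rw [← map_pow, a0_cube, map_one]
      · subst h
        show M.ρ b0 ^ 3 = 1
        rw [← map_pow, b0_cube, map_one]) h1 h2
      (sq_norm hy0 (fun i j => M.comm 0 i 0 j) (hyg a0) (hyg b0) (by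
        rw [← map_mul, ← ab_comm, map_mul, mul_inv_cancel_right]))
    rw [e1]
    have h5 := (closure (sq (M.d 0) (M.ρ a0) (M.ρ b0) '' Set.Iio 7)).card_mul_index
    rw [h4.card, hm, mul_comm] at h5
    rw [Nat.eq_of_mul_eq_mul_right (by norm_num) h5]
    exact hm3
  -- the complement
  have hSt : St π C (3 ^ 5) := by
    refine chain π (sq x a b) S 5 ?_ ?_ ?_ ?_
    · intro i hi
      obtain ⟨k, hk⟩ := sq_eq (x := x) (a := a) (b := b) i hi
      rw [hk]
      exact M.DD_cube hs hz h3 0 k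
    · intro j hj
      have := h1 j (by omega)
      rw [map_sq, ha, hb]
      simpa [hπx] using this
    · intro i j hi hj
      have := h2 i j hi (by omega)
      rw [map_sq, ha, hb]
      simpa [hπx] using this
    · intro i j hi hj
      obtain ⟨k, hk⟩ := sq_eq (x := x) (a := a) (b := b) j hj
      obtain ⟨l, hl⟩ := sq_eq (x := x) (a := a) (b := b) i (by omega)
      have e : sq x a b j * sq x a b i * (sq x a b j)⁻¹ = sq x a b i := by
        rw [hk, hl, hxx, mul_inv_cancel_right]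
      rw [e]
      exact subset_closure ⟨i, hi, rfl⟩
  have hn : ∀ y ∈ sq x a b '' Set.Iio 7, ∀ c ∈ C, y * c * y⁻¹ ∈ C := by
    rintro _ ⟨i, hi, rfl⟩ c hc
    have hi' : i < 7 := hi
    rcases (show i < 5 ∨ i = 5 ∨ i = 6 by omega) with h | h | h
    · have h6 : sq x a b i ∈ C := subset_closure ⟨i, h, rfl⟩
      exact mul_mem (mul_mem h6 hc) (inv_mem h6)
    · subst h; exact hgC ha c hc
    · subst h; exact hgC hb c hc
  have hcm : ∀ y ∈ sq x a b '' Set.Iio 7, ∀ z ∈ sq x a b '' Set.Iio 7, ⁅y, z⁆ ∈ C := by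
    rintro y hy z hz'
    obtain ⟨i, hi, rfl⟩ := hy
    obtain ⟨j, hj, rfl⟩ := hz'
    have hi' : i < 7 := hi
    have hj' : j < 7 := hj
    by_cases h6 : i < 5
    · have h7 : sq x a b i ∈ C := subset_closure ⟨i, h6, rfl⟩
      have e : ⁅sq x a b i, sq x a b j⁆ = sq x a b i * (sq x a b j * (sq x a b i)⁻¹ * (sq x a b j)⁻¹) := by
        rw [commutatorElement_def]; group
      rw [e]
      exact mul_mem h7 (hn _ ⟨j, hj, rfl⟩ _ (inv_mem h7))
    · by_cases h8 : j < 5
      · have h7 : sq x a b j ∈ C := subset_closure ⟨j, h8, rfl⟩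
        rw [commutatorElement_def]
        exact mul_mem (hn _ ⟨i, hi, rfl⟩ _ h7) (inv_mem h7)
      · have e : ⁅sq x a b i, sq x a b j⁆ = 1 := by
          rw [commutatorElement_eq_one_iff_mul_comm]
          rcases (show i = 5 ∨ i = 6 by omega) with h | h <;> rcases (show j = 5 ∨ j = 6 by omega) with h' | h' <;>
            subst h <;> subst h'
          · rfl
          · exact hab
          · exact hab.symm
          · rfl
        rw [e]
        exact one_mem _
  have hle := Cfsg.Agent.H48.Crit.ker_le h Nat.prime_three hker hidx hn hcm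
  have hbot : π.ker = ⊥ := by
    rw [eq_bot_iff]
    intro z hz'
    exact hSt.inj z (hle hz') hz'
  rw [hbot, Subgroup.card_bot] at hcard
  omega



/-! ### The group `SU₆(2)` -/

section SU

variable {F : Type v} [Field F] [Fintype F]

/-- diagonal elements -/
def dgm (c : Fin 6 → F) (h1 : ∀ i, c i * c i ^ 2 = 1) (h2 : ∏ i, c i = 1) : SU 6 F 2 :=
  mk (Matrix.diagonal c) (by rw [Matrix.det_diagonal, h2]) (fun x y => by
    unfold hermForm
    refine Finset.sum_congr rfl fun i _ => ?_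
    rw [Matrix.mulVec_diagonal, Matrix.mulVec_diagonal]
    linear_combination (x i * y i ^ 2) * h1 i)

theorem act_dgm {c : Fin 6 → F} {h1 : ∀ i, c i * c i ^ 2 = 1} {h2 : ∏ i, c i = 1} (x : Fin 6 → F) (i : Fin 6) :
    act (dgm c h1 h2) x i = c i * x i := Matrix.mulVec_diagonal _ _ i

/-- permutation matrices -/
def pm (hF : Fintype.card F = 2 ^ 2) : Equiv.Perm (Fin 6) →* SU 6 F 2 where
  toFun σ := mk (σ⁻¹.permMatrix F) (by
    rw [Matrix.det_permutation]
    rcases Int.units_eq_one_or (Equiv.Perm.sign σ⁻¹) with h | h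
    · rw [h]; simp
    · rw [h]; push_cast; exact neg_eq hF 1) (fun x y => by
    rw [Matrix.permMatrix_mulVec, Matrix.permMatrix_mulVec]
    unfold hermForm
    exact Equiv.sum_comp σ⁻¹ (fun i => x i * y i ^ 2))
  map_one' := by
    apply ext_act
    intro x
    rw [act_one, act_mk, inv_one]
    rw [Matrix.permMatrix_mulVec]
    rfl
  map_mul' σ τ := by
    apply ext_act
    intro x
    rw [act_mul, act_mk, act_mk, act_mk, Matrix.permMatrix_mulVec, Matrix.permMatrix_mulVec, Matrix.permMatrix_mulVec]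
    funext i
    simp [Function.comp]

theorem act_pm (hF : Fintype.card F = 2 ^ 2) (σ : Equiv.Perm (Fin 6)) (x : Fin 6 → F) (i : Fin 6) :
    act (pm hF σ) x i = x (σ⁻¹ i) := by
  show act (mk (σ⁻¹.permMatrix F) _ _) x i = _
  rw [act_mk, Matrix.permMatrix_mulVec]
  rfl

/-- the diagonal entries -/
def wt (ω : F) (i j k : Fin 6) : F := (if k = i then ω else 1) * (if k = j then ω ^ 2 else 1)

variable {ω : F} (h3 : ω ^ 3 = 1)

include h3

theorem wt_cube (i j k : Fin 6) : wt ω i j k ^ 3 = 1 := by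
  unfold wt
  have a : (if k = i then ω else 1) ^ 3 = 1 := by
    split_ifs
    · exact h3
    · exact one_pow 3
  have b : (if k = j then ω ^ 2 else 1) ^ 3 = 1 := by
    split_ifs
    · linear_combination (ω ^ 3 + 1) * h3
    · exact one_pow 3
  rw [mul_pow, a, b, one_mul]

theorem wt_norm (i j k : Fin 6) : wt ω i j k * wt ω i j k ^ 2 = 1 := by
  rw [← wt_cube h3 i j k]; ring

theorem wt_prod (i j : Fin 6) : ∏ k, wt ω i j k = 1 := by
  unfold wt
  rw [Finset.prod_mul_distrib, Finset.prod_ite_eq', Finset.prod_ite_eq']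
  simp only [Finset.mem_univ, if_true]
  linear_combination h3

theorem wt_mul (i j k l : Fin 6) : wt ω i j l * wt ω j k l = wt ω i k l := by
  unfold wt
  have a : (if l = j then ω ^ 2 else 1) * (if l = j then ω else 1) = 1 := by
    split_ifs
    · linear_combination h3
    · exact one_mul 1
  linear_combination ((if l = i then ω else 1) * (if l = k then ω ^ 2 else 1)) * a

end SU

section Final

variable {F : Type v} [Field F] [Fintype F] (hF : Fintype.card F = 2 ^ 2) {ω : F} (h3 : ω ^ 3 = 1)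

/-- the element `diag(…, ω, …, ω², …)` -/
def dd6 (i j : Fin 6) : SU 6 F 2 := dgm (wt ω i j) (wt_norm h3 i j) (wt_prod h3 i j)

theorem act_dd6 (i j : Fin 6) (x : Fin 6 → F) (k : Fin 6) : act (dd6 h3 i j) x k = wt ω i j k * x k := act_dgm x k

theorem dd6_mul (i j k : Fin 6) : dd6 h3 i j * dd6 h3 j k = dd6 h3 i k := by
  apply ext_act
  intro x
  funext l
  rw [act_mul, act_dd6, act_dd6, act_dd6, ← mul_assoc, wt_mul h3]

/-- the monomial data of `SU₆(2)` -/
def mono : Mono (SU 6 F 2) where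
  d := dd6 h3
  ρ := pm hF
  mul := dd6_mul h3
  comm i j k l := by
    apply ext_act
    intro x
    funext m
    rw [act_mul, act_mul, act_dd6, act_dd6, act_dd6, act_dd6]
    ring
  cube i j := by
    apply ext_act
    intro x
    funext m
    rw [pow_succ, pow_two, act_mul, act_mul, act_dd6, act_dd6, act_dd6, act_one]
    linear_combination x m * wt_cube h3 i j m
  conj σ i j := by
    rw [mul_inv_eq_iff_eq_mul]
    apply ext_act
    intro x
    funext m
    rw [act_mul, act_mul, act_pm, act_dd6, act_dd6, act_pm]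
    congr 1
    unfold wt
    have e : ∀ l : Fin 6, (σ⁻¹ m = l) = (m = σ l) := by
      intro l
      apply propext
      constructor
      · intro h; rw [← h]; simp
      · intro h; rw [h]; simp
    simp only [e]

/-- the vectors `e_i` -/
def bv (i : Fin 6) : Fin 6 → F := Pi.single i 1

/-- the elements fixing the line of `e_i` -/
def lst (i : Fin 6) : Subgroup (SU 6 F 2) where
  carrier := {g | ∃ c : F, c ≠ 0 ∧ act g (bv i) = c • bv i}
  one_mem' := ⟨1, one_ne_zero, by rw [act_one, one_smul]⟩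
  mul_mem' := by
    rintro g h ⟨c, hc, h1⟩ ⟨d, hd, h2⟩
    exact ⟨d * c, mul_ne_zero hd hc, by rw [act_mul, h2, act_smul, h1, smul_smul]⟩
  inv_mem' := by
    rintro g ⟨c, hc, h1⟩
    refine ⟨c⁻¹, inv_ne_zero hc, ?_⟩
    have h2 := congrArg (act g⁻¹) h1
    rw [act_inv_act, act_smul] at h2
    calc act g⁻¹ (bv i) = c⁻¹ • (c • act g⁻¹ (bv i)) := by rw [smul_smul, inv_mul_cancel₀ hc, one_smul]
      _ = c⁻¹ • bv i := by rw [← h2]

/-- the elements fixing `e_i` -/
def fst6 (i : Fin 6) : Subgroup (SU 6 F 2) where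
  carrier := {g | act g (bv i) = bv i}
  one_mem' := act_one _
  mul_mem' := by
    intro g h h1 h2
    show act (g * h) (bv i) = bv i
    rw [act_mul, show act h (bv i) = bv i from h2, show act g (bv i) = bv i from h1]
  inv_mem' := by
    intro g h1
    have h2 := congrArg (act g⁻¹) (show act g (bv i) = bv i from h1)
    rw [act_inv_act] at h2
    exact h2.symm

/-- the separating subgroups -/
def SS : ℕ → Subgroup (SU 6 F 2)
  | 0 => fst6 1
  | 1 => fst6 2
  | 2 => fst6 3
  | 3 => fst6 4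
  | 4 => fst6 5
  | 5 => lst 0
  | _ => lst 3

theorem act_dd6_bv (i j k : Fin 6) : act (dd6 h3 i j) (bv k) = wt ω i j k • bv k := by
  funext l
  rw [act_dd6, Pi.smul_apply, smul_eq_mul]
  unfold bv
  by_cases h : l = k
  · subst h; rfl
  · rw [Pi.single_eq_of_ne h, mul_zero, mul_zero]

theorem act_pm_bv (σ : Equiv.Perm (Fin 6)) (k : Fin 6) : act (pm hF σ) (bv k) = bv (σ k) := by
  funext l
  rw [act_pm]
  unfold bv
  by_cases h : l = σ k
  · subst h
    simp
  · rw [Pi.single_eq_of_ne h, Pi.single_eq_of_ne]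
    intro h2
    apply h
    rw [← h2]
    simp

theorem dd6_mem_fst {i j k : Fin 6} (h : k ≠ i) (h' : k ≠ j) : dd6 h3 i j ∈ (fst6 k : Subgroup (SU 6 F 2)) := by
  show act (dd6 h3 i j) (bv k) = bv k
  rw [act_dd6_bv]
  unfold wt
  rw [if_neg h, if_neg h', one_mul, one_smul]

theorem dd6_not_mem_fst (hω : ω ≠ 1) {i j : Fin 6} (h : j ≠ i) : dd6 h3 i j ∉ (fst6 j : Subgroup (SU 6 F 2)) := by
  intro h1
  have h2 : act (dd6 h3 i j) (bv j) = bv j := h1
  rw [act_dd6_bv] at h2
  have h4 := congrFun h2 j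
  unfold wt bv at h4
  rw [if_neg h, if_pos rfl, one_mul, Pi.smul_apply, Pi.single_eq_same, smul_eq_mul, mul_one] at h4
  apply hω
  calc ω = ω ^ 3 * ω := by rw [h3, one_mul]
    _ = ω ^ 2 * ω ^ 2 := by ring
    _ = 1 := by rw [h4, mul_one]

theorem dd6_mem_lst {i j k : Fin 6} : dd6 h3 i j ∈ (lst k : Subgroup (SU 6 F 2)) := by
  refine ⟨wt ω i j k, ?_, act_dd6_bv h3 i j k⟩
  intro h
  have h1 := wt_cube h3 i j k
  rw [h] at h1
  norm_num at h1

theorem pm_mem_lst {σ : Equiv.Perm (Fin 6)} {k : Fin 6} (h : σ k = k) : pm hF σ ∈ (lst k : Subgroup (SU 6 F 2)) :=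
  ⟨1, one_ne_zero, by rw [act_pm_bv, h, one_smul]⟩

theorem pm_not_mem_lst {σ : Equiv.Perm (Fin 6)} {k : Fin 6} (h : σ k ≠ k) :
    pm hF σ ∉ (lst k : Subgroup (SU 6 F 2)) := by
  rintro ⟨c, hc, h1⟩
  rw [act_pm_bv] at h1
  have h2 := congrFun h1 k
  unfold bv at h2
  rw [Pi.single_eq_of_ne (Ne.symm h), Pi.smul_apply, Pi.single_eq_same, smul_eq_mul, mul_one] at h2
  exact hc h2.symm

include hF in
theorem card_SU6 : Nat.card (SU 6 F 2) = 12615680 * 3 ^ 7 := by
  have h := Cfsg.Agent.S0278.result (F := F) (q := 2) hF 6 (by norm_num)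
  have e2 : (2 : ℕ) ^ (6 * (6 - 1) / 2) * ∏ i ∈ Finset.range 6,
      (if Even i then 2 ^ (i + 1) + 1 else 2 ^ (i + 1) - 1) = 82771476480 := by
    simp only [Finset.prod_range_succ, Finset.prod_range_zero]
    rw [if_pos (by decide), if_neg (by decide), if_pos (by decide), if_neg (by decide),
      if_pos (by decide), if_neg (by decide)]
    norm_num
  rw [e2] at h
  norm_num
  omega

include hF in
/-- **`SU₆(2)` has no perfect central extension with kernel of order 3.** -/
theorem noCov_three : NoCov 3 (SU 6 F 2) := by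
  obtain ⟨ω, hω⟩ := exists_omega hF
  have h3 : ω ^ 3 = 1 := by linear_combination (ω - 1) * hω
  have hω1 := omega_ne_one hF hω
  refine noCov_of_mono (mono hF h3) SS ?_ ?_ (card_SU6 hF) (by norm_num)
  · intro j hj
    match j, hj with
    | 0, _ => exact dd6_not_mem_fst h3 hω1 (by decide)
    | 1, _ => exact dd6_not_mem_fst h3 hω1 (by decide)
    | 2, _ => exact dd6_not_mem_fst h3 hω1 (by decide)
    | 3, _ => exact dd6_not_mem_fst h3 hω1 (by decide)
    | 4, _ => exact dd6_not_mem_fst h3 hω1 (by decide)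
    | 5, _ => exact pm_not_mem_lst hF (by decide)
    | 6, _ => exact pm_not_mem_lst hF (by decide)
  · intro i j hi hj
    match i, j, hi, hj with
    | 0, 1, _, _ => exact dd6_mem_fst h3 (by decide) (by decide)
    | 0, 2, _, _ => exact dd6_mem_fst h3 (by decide) (by decide)
    | 0, 3, _, _ => exact dd6_mem_fst h3 (by decide) (by decide)
    | 0, 4, _, _ => exact dd6_mem_fst h3 (by decide) (by decide)
    | 0, 5, _, _ => exact dd6_mem_lst h3
    | 0, 6, _, _ => exact dd6_mem_lst h3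
    | 1, 2, _, _ => exact dd6_mem_fst h3 (by decide) (by decide)
    | 1, 3, _, _ => exact dd6_mem_fst h3 (by decide) (by decide)
    | 1, 4, _, _ => exact dd6_mem_fst h3 (by decide) (by decide)
    | 1, 5, _, _ => exact dd6_mem_lst h3
    | 1, 6, _, _ => exact dd6_mem_lst h3
    | 2, 3, _, _ => exact dd6_mem_fst h3 (by decide) (by decide)
    | 2, 4, _, _ => exact dd6_mem_fst h3 (by decide) (by decide)
    | 2, 5, _, _ => exact dd6_mem_lst h3
    | 2, 6, _, _ => exact dd6_mem_lst h3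
    | 3, 4, _, _ => exact dd6_mem_fst h3 (by decide) (by decide)
    | 3, 5, _, _ => exact dd6_mem_lst h3
    | 3, 6, _, _ => exact dd6_mem_lst h3
    | 4, 5, _, _ => exact dd6_mem_lst h3
    | 4, 6, _, _ => exact dd6_mem_lst h3
    | 5, 6, _, _ => exact pm_mem_lst hF (by decide)
    | (n + 6), j, hi, hj => exact absurd hi (by omega)

end Final

end Cfsg.Agent.H133.USixThree
end

-- part: H133/USixMult
section
/-!
# The Schur multiplier of `PSU₆(2)` is `Z₃ × Z₂ × Z₂`

* `dbl_of_nonsplit`: a non-split double cover of a perfect group is a perfect double cover.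
* `exists_cover`: a perfect central extension of `PSU₆(2)` with kernel `Z₃ × Z₂ × Z₂`.
* `result`: the multiplier.
-/

set_option autoImplicit false
set_option linter.unusedVariables false

namespace Cfsg.Agent.H133.USixMult

open Subgroup Cfsg Cfsg.Agent.H51.Mult Cfsg.Agent.H68.Bounds Cfsg.Agent.H133.FibPce Cfsg.Agent.KFacts.MulDef
  Cfsg.Agent.KFacts.MulTwo
open Cfsg.Agent.ClassicalGeometry.UnitAutBasic (pr pr_surjective)

universe u v

/-- a non-split double cover of a perfect group is a perfect double cover -/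
theorem dbl_of_nonsplit {C : Type u} {X : Type v} [Group C] [Group X] (h : Cfsg.IsNonsplitDoubleCover C X)
    (hX : commutator X = ⊤) : ∃ (π : C →* X) (c : C), Dbl π c := by
  obtain ⟨h1, ⟨e⟩, h2⟩ := h
  let π : C →* X := e.toMonoidHom.comp (QuotientGroup.mk' (center C))
  have hsurj : Function.Surjective π := e.surjective.comp (QuotientGroup.mk'_surjective _)
  have hker : ∀ x, π x = 1 ↔ x ∈ center C := by
    intro x
    show e (QuotientGroup.mk' (center C) x) = 1 ↔ _
    rw [map_eq_one_iff e e.injective]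
    exact QuotientGroup.eq_one_iff x
  have hz : π.ker ≤ center C := fun x hx => (hker x).1 hx
  have hperf : commutator C = ⊤ := by
    haveI : Fact (Nat.card (center C)).Prime := ⟨by rw [h1]; exact Nat.prime_two⟩
    have hfac : ∀ x : C, ∃ d ∈ commutator C, ∃ z ∈ center C, x = d * z := by
      intro x
      obtain ⟨d, hd, z, hz1, rfl⟩ := Cfsg.Agent.H51.Tools.exists_factor hsurj hX x
      exact ⟨d, hd, z, (hker z).1 hz1, rfl⟩
    rcases Subgroup.eq_bot_or_eq_top_of_prime_card ((commutator C).comap (center C).subtype) with h3 | h3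
    · exfalso
      apply h2 (commutator C)
      apply Subgroup.isComplement'_of_disjoint_and_mul_eq_univ
      · rw [disjoint_iff, eq_bot_iff]
        rintro x ⟨hx1, hx2⟩
        have h4 : (⟨x, hx1⟩ : center C) ∈ (commutator C).comap (center C).subtype := hx2
        rw [h3, mem_bot] at h4
        exact congrArg Subtype.val h4
      · rw [Set.eq_univ_iff_forall]
        intro x
        obtain ⟨d, hd, z, hz1, rfl⟩ := hfac x
        exact ⟨z, hz1, d, hd, (mem_center_iff.1 hz1 d).symm⟩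
    · rw [eq_top_iff]
      intro x _
      obtain ⟨d, hd, z, hz1, rfl⟩ := hfac x
      refine mul_mem hd ?_
      have h4 : (⟨z, hz1⟩ : center C) ∈ (commutator C).comap (center C).subtype := by rw [h3]; exact mem_top _
      exact h4
  haveI : Finite (center C) := Nat.finite_of_card_ne_zero (by rw [h1]; norm_num)
  haveI : Nontrivial (center C) := Finite.one_lt_card_iff_nontrivial.1 (by rw [h1]; norm_num)
  obtain ⟨⟨c, hc⟩, hc1⟩ := exists_ne (1 : center C)
  have hc1' : c ≠ 1 := fun h => hc1 (Subtype.ext h)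
  have hcz : ∀ x ∈ center C, x = 1 ∨ x = c := by
    intro x hx
    by_contra hcon
    push Not at hcon
    have h5 : 3 ≤ Nat.card (center C) := by
      have h6 : ({(1 : center C), ⟨c, hc⟩, ⟨x, hx⟩} : Set (center C)).ncard = 3 := by
        rw [Set.ncard_eq_three]
        exact ⟨1, ⟨c, hc⟩, ⟨x, hx⟩, fun h => hc1' (congrArg Subtype.val h).symm,
          fun h => hcon.1 (congrArg Subtype.val h).symm, fun h => hcon.2 (congrArg Subtype.val h).symm, rfl⟩
      rw [← h6]
      exact Set.ncard_le_card _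
    omega
  refine ⟨π, c, ⟨⟨hc1', ?_, fun x => (mem_center_iff.1 hc x).symm, hperf⟩, hsurj, fun x => ?_⟩⟩
  · rcases hcz _ (mul_mem hc hc) with h5 | h5
    · exact h5
    · exact absurd (mul_eq_left.1 h5) hc1'
  · rw [hker]
    constructor
    · exact hcz x
    · rintro (rfl | rfl)
      · exact one_mem _
      · exact hc

theorem pce_of_dbl {L : Type u} {X : Type v} [Group L] [Group X] {π : L →* X} {c : L} (h : Dbl π c) :
    PCE π ∧ Nat.card π.ker = 2 := by
  refine ⟨⟨h.surj, fun x hx => ?_, h.perf⟩, ?_⟩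
  · rw [mem_center_iff]
    rcases (h.ker x).1 hx with h1 | h1
    · intro y; rw [h1, mul_one, one_mul]
    · intro y; rw [h1, h.cen]
  · have h2 : (π.ker : Set L) = {1, c} := by
      ext x
      exact h.ker x
    have h3 : Nat.card π.ker = (π.ker : Set L).ncard := rfl
    rw [h3, h2, Set.ncard_pair h.ne.symm]

section

variable {F : Type v} [Field F] [Fintype F] (hF : Fintype.card F = 2 ^ 2)

include hF

theorem pce_pr : PCE (pr 6 F 2) ∧ Nat.card (pr 6 F 2).ker = 3 := by
  refine ⟨⟨pr_surjective, ?_, LieClassical.HermPerfect.commutator_SU_eq_top hF (by norm_num) (by omega)⟩, ?_⟩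
  · intro x hx
    exact (QuotientGroup.eq_one_iff x).1 hx
  · have h1 : (pr 6 F 2).ker = center (SU 6 F 2) := QuotientGroup.ker_mk' _
    rw [h1, Cfsg.Agent.S0279.result hF 6 (by norm_num)]
    decide

/-- the order of the kernel of a perfect central extension of `PSU₆(2)` -/
theorem ker_bounds {L : Type u} [Group L] [Finite L] {π : L →* PSU 6 F 2} (h : PCE π) :
    ¬ 8 ∣ Nat.card π.ker ∧ ¬ 9 ∣ Nat.card π.ker ∧ ∀ p : ℕ, p.Prime → 5 ≤ p → ¬ p ∣ Nat.card π.ker := by
  obtain ⟨hpr, hpr3⟩ := pce_pr hF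
  refine ⟨fun h8 => ?_, fun h9 => ?_, fun p hp hp5 => ?_⟩
  · obtain ⟨L', _, _, ρ, hρ, hP, hc⟩ := exists_ppart h Nat.prime_two
    have h1 := (USixTwo.main hF hρ.perf hρ.surj hρ.cen hP).2
    have h2 : 3 ≤ (Nat.card π.ker).factorization 2 :=
      (Nat.prime_two.pow_dvd_iff_le_factorization Nat.card_pos.ne').1 (by norm_num; exact h8)
    have h3 : 2 ^ 3 ≤ 2 ^ ((Nat.card π.ker).factorization 2) := Nat.pow_le_pow_right (by norm_num) h2
    rw [hc] at h1
    omega
  · obtain ⟨D, _, f, g, hf, hg, hfg, hD, hDf⟩ := exists_common h hpr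
    haveI : Finite D := hDf inferInstance inferInstance
    have h1 : Nat.card (π.comp f).ker = Nat.card π.ker * Nat.card f.ker := card_ker_comp hf.surj
    have h2 : Nat.card ((pr 6 F 2).comp g).ker = 3 * Nat.card g.ker := by rw [card_ker_comp hg.surj, hpr3]
    rw [← hfg, h1] at h2
    have h3 := (USixThree.noCov_three hF).not_dvd Nat.prime_three hg
    apply h3
    obtain ⟨k, hk⟩ := h9
    rw [hk] at h2
    exact ⟨k * Nat.card f.ker, by linarith⟩
  · refine (noCov_of_not_sq_dvd (X := PSU 6 F 2) hp ?_).not_dvd hp h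
    rw [Cfsg.Agent.KFacts.OddLift.USixL.card_PSU hF]
    intro hd
    have e : 2 ^ 15 * 280665 = 2 ^ 15 * 3 ^ 6 * (5 * 7 * 11) := by norm_num
    rw [e] at hd
    have hc : Nat.Coprime (p ^ 2) (2 ^ 15 * 3 ^ 6) := by
      apply Nat.Coprime.pow_left
      rw [Nat.Prime.coprime_iff_not_dvd hp]
      intro h1
      rcases (Nat.Prime.dvd_mul hp).1 h1 with h2 | h2
      · have := (Nat.prime_dvd_prime_iff_eq hp Nat.prime_two).1 (hp.dvd_of_dvd_pow h2)
        omega
      · have := (Nat.prime_dvd_prime_iff_eq hp Nat.prime_three).1 (hp.dvd_of_dvd_pow h2)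
        omega
    have h1 := hc.dvd_of_dvd_mul_left hd
    have h2 := Nat.le_of_dvd (by norm_num) h1
    have h3 : p ≤ 19 := by nlinarith
    interval_cases p <;> revert h1 <;> decide

end

/-- **A perfect central extension of `PSU₆(2)` with kernel `Z₃ × Z₂ × Z₂`.** -/
theorem exists_cover {F : Type} [Field F] [Fintype F] (hF : Fintype.card F = 2 ^ 2) {L : Type} [Group L] [Finite L]
    {π : L →* PSU 6 F 2} {c : L} (hd : Dbl π c) :
    ∃ (G : Type) (_ : Group G) (_ : Finite G) (q : G →* PSU 6 F 2), PCE q ∧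
      Nonempty (q.ker ≃* Multiplicative (ZMod 3 × ZMod 2 × ZMod 2)) := by
  obtain ⟨ω, hω⟩ := Cfsg.Agent.SporadicStructure.UnitTwo.exists_omega hF
  have h0 := Cfsg.Agent.KFacts.OddLift.USixL.omega_ne_zero hω
  have h3 : ω ^ 3 = 1 := by linear_combination (ω - 1) * hω
  obtain ⟨hπ, hπ2⟩ := pce_of_dbl hd
  have hρ := hπ.congr (USixTwo.dlt ω h0 h3)
  have hρ2 : Nat.card ((USixTwo.dlt ω h0 h3).toMonoidHom.comp π).ker = 2 := by rw [ker_congr, hπ2]
  set ρ := (USixTwo.dlt ω h0 h3).toMonoidHom.comp π with hρdef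
  have hperf : commutator (fib π ρ) = ⊤ := by
    rcases dichotomy hπ hρ (by rw [hρ2]; exact Nat.prime_two) (hπ2.trans hρ2.symm) with h | h
    · exact h
    · exact absurd h (USixTwo.no_iso hF hd hω h0 h3)
  have h4 := pce_fib hπ hρ hperf
  obtain ⟨hpr, hpr3⟩ := pce_pr hF
  have h5 : Nat.card (pj π ρ).ker = 4 := by
    rw [Nat.card_congr (kerFib π ρ).toEquiv, Nat.card_prod, hπ2, hρ2]
  have h6 : commutator (fib (pr 6 F 2) (pj π ρ)) = ⊤ := perfect_of_coprime hpr h4 (by rw [hpr3, h5]; norm_num)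
  refine ⟨fib (pr 6 F 2) (pj π ρ), inferInstance, inferInstance, pj _ _, pce_fib hpr h4 h6, ?_⟩
  haveI : Fact (Nat.Prime 3) := ⟨Nat.prime_three⟩
  have e3 : (pr 6 F 2).ker ≃* Multiplicative (ZMod 3) := by
    haveI := isCyclic_of_prime_card hpr3
    refine mulEquivOfCyclicCardEq ?_
    rw [hpr3, Nat.card_congr (Multiplicative.toAdd (α := ZMod 3)), Nat.card_zmod]
  have e2 : ∀ {A : Type} [Group A] (τ : A →* PSU 6 F 2), Nat.card τ.ker = 2 → Nonempty (τ.ker ≃* Multiplicative (ZMod 2)) := by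
    intro A _ τ hτ
    haveI := isCyclic_of_prime_card hτ
    refine ⟨mulEquivOfCyclicCardEq ?_⟩
    rw [hτ, Nat.card_congr (Multiplicative.toAdd (α := ZMod 2)), Nat.card_zmod]
  obtain ⟨e4⟩ := e2 π hπ2
  obtain ⟨e5⟩ := e2 ρ hρ2
  exact ⟨(kerFib _ _).trans ((MulEquiv.prodCongr e3 ((kerFib π ρ).trans ((MulEquiv.prodCongr e4 e5).trans
    (MulEquiv.prodMultiplicative (ZMod 2) (ZMod 2)).symm))).trans
    (MulEquiv.prodMultiplicative (ZMod 3) (ZMod 2 × ZMod 2)).symm)⟩

theorem main {F : Type} [Field F] [Fintype F] (hF : Fintype.card F = 2 ^ 2) {L : Type} [Group L] [Finite L]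
    {π : L →* PSU 6 F 2} {c : L} (hd : Dbl π c) :
    Cfsg.HasSchurMultiplier (PSU 6 F 2) (Multiplicative (ZMod 3 × ZMod 2 × ZMod 2)) := by
  obtain ⟨G, _, _, q, hq, ⟨e⟩⟩ := exists_cover hF hd
  have hcard : Nat.card q.ker = 12 := by
    rw [Nat.card_congr e.toEquiv, Nat.card_congr Multiplicative.toAdd, Nat.card_prod, Nat.card_prod, Nat.card_zmod,
      Nat.card_zmod]
  refine hasSchur_of_noCov hq (fun p hp _ => ?_) e
  intro E _ _ τ hτ hτp
  obtain ⟨h1, h2, h3⟩ := ker_bounds hF (pce_comp hτ hq)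
  rw [card_ker_comp hτ.surj, hcard, hτp] at h1 h2 h3
  rcases (show p = 2 ∨ p = 3 ∨ 5 ≤ p by
    have := hp.two_le
    by_contra hcon
    push Not at hcon
    obtain ⟨k1, k2, k3⟩ := hcon
    have : p = 4 := by omega
    rw [this] at hp
    exact absurd hp (by norm_num)) with h | h | h
  · rw [h] at h1; exact h1 (by norm_num)
  · rw [h] at h2; exact h2 (by norm_num)
  · exact h3 p hp h (dvd_mul_left _ _)

end Cfsg.Agent.H133.USixMult
end
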